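import Cfsg.Agent.Lib.HallGen.PrimeGraphBC.Irreducible

/-!
# Commuting isometries and the sizes of their tori
-/

set_option autoImplicit false

namespace CfsgLib.HallGen.PrimeGraphBC

open Module

variable {F : Type*} [Field F] [Fintype F]
variable {V : Type*} [AddCommGroup V] [Module F V] [FiniteDimensional F V]

local notation "qq" => Fintype.card F

/-- A smallest non-trivial invariant subspace. -/
theorem exists_min (g : Module.End F V) (U : Submodule F V) (hU0 : U ≠ ⊥) (hU : ∀ v ∈ U, g v ∈ U) :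
    ∃ (L : Submodule F V) (hL : ∀ v ∈ L, g v ∈ L), L ≤ U ∧ L ≠ ⊥ ∧
      (∀ L' : Submodule F L, (∀ v ∈ L', g.restrict hL v ∈ L') → L' = ⊥ ∨ L' = ⊤) ∧
      ∀ L' ≤ U, (∀ v ∈ L', g v ∈ L') → L' ≠ ⊥ → finrank F L ≤ finrank F L' := by
  classical
  have hex : ∃ k, ∃ L : Submodule F V, L ≤ U ∧ L ≠ ⊥ ∧ (∀ v ∈ L, g v ∈ L) ∧ finrank F L = k :=
    ⟨_, U, le_rfl, hU0, hU, rfl⟩
  obtain ⟨L, hLU, hL0, hL, hk⟩ := Nat.find_spec hex
  have hmin : ∀ L' ≤ U, (∀ v ∈ L', g v ∈ L') → L' ≠ ⊥ → finrank F L ≤ finrank F L' := fun L' h1 h2 h3 =>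
    hk ▸ Nat.find_min' hex ⟨L', h1, h3, h2, rfl⟩
  refine ⟨L, hL, hLU, hL0, fun L' hL' => ?_, hmin⟩
  refine or_iff_not_imp_left.2 fun h0 => ?_
  have h1 := hmin (L'.map L.subtype) ((Submodule.map_subtype_le _ _).trans hLU)
    (by rintro _ ⟨v, hv, rfl⟩; exact ⟨_, hL' v hv, rfl⟩)
    (fun h => h0 (Submodule.map_injective_of_injective (Submodule.injective_subtype L) (h.trans (Submodule.map_bot _).symm)))
  rw [Submodule.finrank_map_subtype_eq] at h1
  exact Submodule.eq_top_of_finrank_eq (le_antisymm (Submodule.finrank_le _) h1)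

variable (B : V →ₗ[F] V →ₗ[F] F)

/-- Totally singular subspaces have at most half the dimension. -/
theorem two_mul_finrank_le (hnd : ∀ x, (∀ y, B x y = 0) → x = 0) (L : Submodule F V)
    (h : ∀ x ∈ L, ∀ y ∈ L, B x y = 0) : 2 * finrank F L ≤ finrank F V := by
  have hinj : Function.Injective (B.comp L.subtype) := by
    rw [injective_iff_map_eq_zero]
    exact fun x hx => Subtype.ext (hnd x fun y => LinearMap.congr_fun hx y)
  have hle : LinearMap.range (B.comp L.subtype) ≤ L.dualAnnihilator := by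
    rintro _ ⟨x, rfl⟩
    rw [Submodule.mem_dualAnnihilator]
    exact h x x.2
  have h1 := Submodule.finrank_mono hle
  have h3 : finrank F (LinearMap.range (B.comp L.subtype)) = finrank F L := LinearMap.finrank_range_of_inj hinj
  have h2 : finrank F L + finrank F L.dualAnnihilator = finrank F V := Subspace.finrank_add_finrank_dualAnnihilator_eq L
  have h4 : finrank F L ≤ finrank F L.dualAnnihilator := h3.symm.le.trans h1
  clear h1
  omega

theorem iso_pow {g : Module.End F V} (hiso : ∀ x y, B (g x) (g y) = B x y) :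
    ∀ (k : ℕ) (x y : V), B ((g ^ k) x) ((g ^ k) y) = B x y := by
  intro k
  induction k with
  | zero => intro x y; rfl
  | succ k ih => intro x y; rw [pow_succ, Module.End.mul_apply, Module.End.mul_apply, ih, hiso]

/-- The two kinds of smallest invariant subspaces of a fixed-point-free isometry. -/
theorem min_cases [Nontrivial V] (hnd : ∀ x, (∀ y, B x y = 0) → x = 0) (hrefl : ∀ x y, B x y = 0 → B y x = 0)
    (g : Module.End F V) (hiso : ∀ x y, B (g x) (g y) = B x y) {M : ℕ} (hM : orderOf g = M) (hM3 : 3 ≤ M)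
    (hfpf : ∀ k : ℕ, g ^ k ≠ 1 → ∀ v, (g ^ k) v = v → v = 0) :
    ∃ L : Submodule F V, (∀ L' : Submodule F V, (∀ v ∈ L', g v ∈ L') → L' ≠ ⊥ → finrank F L ≤ finrank F L') ∧
      ((∃ d, 1 ≤ d ∧ finrank F L = 2 * d ∧ 2 * d ≤ finrank F V ∧ M ∣ qq ^ d + 1) ∨
       (1 ≤ finrank F L ∧ 2 * finrank F L ≤ finrank F V ∧ M ∣ qq ^ finrank F L - 1 ∧
          ∀ x ∈ L, ∀ y ∈ L, B x y = 0)) := by
  obtain ⟨L, hL, -, hL0, hirr, hmin⟩ := exists_min g ⊤ top_ne_bot (fun _ _ => Submodule.mem_top)
  refine ⟨L, fun L' h1 h2 => hmin L' le_top h1 h2, ?_⟩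
  haveI : Nontrivial L := Submodule.nontrivial_iff_ne_bot.2 hL0
  set gL := g.restrict hL with hgL
  have hord : orderOf gL = M := by
    refine Nat.dvd_antisymm (orderOf_dvd_of_pow_eq_one ?_) (hM ▸ orderOf_dvd_of_pow_eq_one ?_)
    · refine LinearMap.ext fun v => Subtype.ext ?_
      rw [hgL, Module.End.pow_restrict M, LinearMap.restrict_coe_apply, ← hM, pow_orderOf_eq_one]
      rfl
    · by_contra h
      obtain ⟨v, hv⟩ := exists_ne (0 : L)
      refine hv (Subtype.ext (hfpf _ h v ?_))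
      have h1 := congrArg Subtype.val (LinearMap.congr_fun (pow_orderOf_eq_one gL) v)
      rw [hgL, Module.End.pow_restrict (orderOf (g.restrict hL)), LinearMap.restrict_coe_apply] at h1
      exact h1
  let β : L →ₗ[F] L →ₗ[F] F := B.compl₁₂ L.subtype L.subtype
  have hβ : ∀ x y : L, β x y = B x y := fun _ _ => rfl
  have hrad : ∀ v ∈ LinearMap.ker β, gL v ∈ LinearMap.ker β := by
    intro v hv
    rw [LinearMap.mem_ker] at hv ⊢
    refine LinearMap.ext fun y => ?_
    have h1 : g ((g ^ (M - 1)) (y : V)) = y := by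
      rw [← Module.End.mul_apply, ← pow_succ', Nat.sub_add_cancel (by omega), ← hM, pow_orderOf_eq_one]
      rfl
    have hmem : (g ^ (M - 1)) (y : V) ∈ L := by
      have := ((g.restrict hL) ^ (M - 1) : Module.End F L) y |>.2
      rwa [Module.End.pow_restrict (M - 1), LinearMap.restrict_coe_apply] at this
    show B (g v) (y : V) = 0
    rw [← h1, hiso]
    exact LinearMap.congr_fun hv (⟨_, hmem⟩ : L)
  rcases hirr _ hrad with h | h
  · left
    obtain ⟨d, hd1, hd, hdM⟩ := irreducible_form gL hord hM3 hirr β (fun x y => hiso x y) (fun y hy => by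
      refine (Submodule.eq_bot_iff _).1 h y (LinearMap.mem_ker.2 (LinearMap.ext fun x => ?_))
      exact hrefl _ _ (hy x))
    exact ⟨d, hd1, hd, hd ▸ Submodule.finrank_le L, hdM⟩
  · right
    have hsing : ∀ x ∈ L, ∀ y ∈ L, B x y = 0 := fun x hx y hy =>
      LinearMap.congr_fun (LinearMap.mem_ker.1 (h.symm.le (Submodule.mem_top (x := (⟨x, hx⟩ : L))))) ⟨y, hy⟩
    exact ⟨Nat.one_le_iff_ne_zero.2 fun h0 => hL0 (Submodule.finrank_eq_zero.1 h0),
      two_mul_finrank_le B hnd L hsing, irreducible_dvd gL hord (by omega) hirr, hsing⟩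

theorem cond_of_fpf [Nontrivial V] (hnd : ∀ x, (∀ y, B x y = 0) → x = 0) (hrefl : ∀ x y, B x y = 0 → B y x = 0)
    (g : Module.End F V) (hiso : ∀ x y, B (g x) (g y) = B x y) {M : ℕ} (hM : orderOf g = M) (hM3 : 3 ≤ M)
    (hfpf : ∀ k : ℕ, g ^ k ≠ 1 → ∀ v, (g ^ k) v = v → v = 0) : Cond qq (finrank F V) M := by
  obtain ⟨L, -, ⟨d, h1, -, h2, h3⟩ | ⟨h1, h2, h3, -⟩⟩ := min_cases B hnd hrefl g hiso hM hM3 hfpf
  exacts [⟨d, h1, h2, Or.inl h3⟩, ⟨_, h1, h2, Or.inr h3⟩]

omit [Fintype F] [FiniteDimensional F V] in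
/-- Powers of prime order maps fix no more. -/
theorem fix_of_pow {a : Module.End F V} {r : ℕ} (hr : r.Prime) (ha : a ^ r = 1) {k : ℕ} (hk : ¬ r ∣ k) {v : V}
    (hv : (a ^ k) v = v) : a v = v := by
  haveI := Fact.mk hr
  obtain ⟨j, hj⟩ : ∃ j, k * j ≡ 1 [MOD r] :=
    ⟨((k : ZMod r)⁻¹).val, by
      rw [← ZMod.natCast_eq_natCast_iff, Nat.cast_mul, ZMod.natCast_zmod_val,
        mul_inv_cancel₀ (fun h => hk ((ZMod.natCast_eq_zero_iff _ _).1 h)), Nat.cast_one]⟩
  have h1 : ∀ i : ℕ, (a ^ (k * i)) v = v := by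
    intro i
    induction i with
    | zero => simp
    | succ i ih => rw [mul_add, mul_one, pow_add, Module.End.mul_apply, hv, ih]
  have h2 := h1 j
  rwa [pow_eq_pow_mod (k * j) ha, hj, ← pow_eq_pow_mod 1 ha, pow_one] at h2

omit [Fintype F] [FiniteDimensional F V] in
theorem fpf_of_prime {a : Module.End F V} {r : ℕ} (hr : r.Prime) (ha : a ^ r = 1) (hfix : ∀ v, a v = v → v = 0) :
    ∀ k : ℕ, a ^ k ≠ 1 → ∀ v, (a ^ k) v = v → v = 0 := by
  intro k hk v hv
  refine hfix v (fix_of_pow hr ha (fun h => hk ?_) hv)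
  obtain ⟨j, rfl⟩ := h
  rw [pow_mul, ha, one_pow]

omit [Fintype F] [FiniteDimensional F V] in
theorem orderOf_fpf [Nontrivial V] {a : Module.End F V} {r : ℕ} (hr : r.Prime) (ha : a ^ r = 1)
    (hfix : ∀ v, a v = v → v = 0) : orderOf a = r := by
  haveI := Fact.mk hr
  refine orderOf_eq_prime ha fun h => ?_
  obtain ⟨v, hv⟩ := exists_ne (0 : V)
  exact hv (hfix v (by rw [h]; rfl))

omit [Fintype F] in
/-- A fixed-point-free isometry of odd order lives in even dimension. -/
theorem even_finrank (h2 : (2 : F) ≠ 0) (hnd : ∀ x, (∀ y, B x y = 0) → x = 0) (a : Module.End F V)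
    (hiso : ∀ x y, B (a x) (a y) = B x y) {M : ℕ} (hM : Odd M) (ha : a ^ M = 1)
    (hfix : ∀ v, a v = v → v = 0) : Even (finrank F V) := by
  classical
  let b := Module.finBasis F V
  set G := LinearMap.toMatrix b b a with hG
  set J := LinearMap.BilinForm.toMatrix b B with hJ
  have hGJ : G.transpose * J * G = J := by
    rw [hG, hJ, ← LinearMap.BilinForm.toMatrix_comp b b]
    congr 1
    exact LinearMap.ext₂ hiso
  have hJd : J.det ≠ 0 := by
    refine (LinearMap.BilinForm.nondegenerate_iff_det_ne_zero b).1 ?_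
    exact LinearMap.BilinForm.nondegenerate_iff_ker_eq_bot.2
      ((Submodule.eq_bot_iff _).2 fun x hx => hnd x fun y => LinearMap.congr_fun (LinearMap.mem_ker.1 hx) y)
  have hGd : G.det * G.det = 1 := by
    have h := congrArg Matrix.det hGJ
    rw [Matrix.det_mul, Matrix.det_mul, Matrix.det_transpose] at h
    exact mul_right_cancel₀ hJd (by linear_combination h)
  have hGM : G.det ^ M = 1 := by
    rw [hG, LinearMap.det_toMatrix, ← map_pow, ha, map_one]
  have hG1 : G.det = 1 := by
    obtain ⟨k, rfl⟩ := hM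
    rwa [pow_succ, pow_mul, pow_two, hGd, one_pow, one_mul] at hGM
  have hG1' : (G - 1).det ≠ 0 := by
    intro h
    obtain ⟨v, hv0, hv⟩ := Matrix.exists_mulVec_eq_zero_iff.2 h
    refine hv0 ?_
    rw [Matrix.sub_mulVec, Matrix.one_mulVec, sub_eq_zero] at hv
    have h1 := hfix (b.equivFun.symm v) (b.equivFun.injective (by
      rw [LinearEquiv.apply_symm_apply]
      conv_rhs => rw [← hv]
      funext i
      have := congrFun (LinearMap.toMatrix_mulVec_repr b b a (b.equivFun.symm v)) i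
      rw [show ⇑(b.repr (b.equivFun.symm v)) = v from b.equivFun.apply_symm_apply v] at this
      exact this.symm))
    exact (b.equivFun.apply_symm_apply v).symm.trans (by rw [h1, map_zero])
  have h : G.transpose * J * (G - 1) = -((G - 1).transpose * J) := by
    rw [Matrix.mul_sub, mul_one, hGJ, Matrix.transpose_sub, Matrix.transpose_one, sub_mul, one_mul]
    abel
  have h3 := congrArg Matrix.det h
  rw [Matrix.det_mul, Matrix.det_mul, Matrix.det_neg, Matrix.det_mul, Matrix.det_transpose, Matrix.det_transpose,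
    hG1, one_mul, Fintype.card_fin] at h3
  by_contra hodd
  rw [(Nat.not_even_iff_odd.1 hodd).neg_one_pow, neg_one_mul] at h3
  have h4 : (2 : F) * (J.det * (G - 1).det) = 0 := by linear_combination h3
  exact (mul_ne_zero h2 (mul_ne_zero hJd hG1')) h4

omit [Fintype F] in
/-- The moved and fixed spaces of a semisimple isometry. -/
theorem split (hnd : ∀ x, (∀ y, B x y = 0) → x = 0) (hrefl : ∀ x y, B x y = 0 → B y x = 0) (a : Module.End F V)
    (hiso : ∀ x y, B (a x) (a y) = B x y) {M : ℕ} (hMF : (M : F) ≠ 0) (ha : a ^ M = 1) :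
    IsCompl (LinearMap.range (a - 1)) (LinearMap.ker (a - 1)) ∧
      (∀ x ∈ LinearMap.range (a - 1), ∀ y ∈ LinearMap.ker (a - 1), B x y = 0) ∧
      (∀ x ∈ LinearMap.range (a - 1), (∀ y ∈ LinearMap.range (a - 1), B x y = 0) → x = 0) ∧
      (∀ T : Module.End F V, Commute T a → (∀ v ∈ LinearMap.range (a - 1), T v ∈ LinearMap.range (a - 1)) ∧
        ∀ v ∈ LinearMap.ker (a - 1), T v ∈ LinearMap.ker (a - 1)) ∧
      (∀ x ∈ LinearMap.range (a - 1), a x = x → x = 0) := by
  have hdisj : Disjoint (LinearMap.range (a - 1)) (LinearMap.ker (a - 1)) := by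
    rw [Submodule.disjoint_def]
    rintro w ⟨v, rfl⟩ hw
    rw [LinearMap.mem_ker] at hw
    set x := (a - 1) v with hx
    have hTx : a x = x := by simpa [sub_eq_zero] using hw
    have hTv : a v = v + x := by rw [hx]; simp
    have hk : ∀ k : ℕ, (a ^ k) v = v + (k : F) • x := by
      intro k
      induction k with
      | zero => simp
      | succ k ih =>
        rw [pow_succ', Module.End.mul_apply, ih, map_add, map_smul, hTx, hTv, Nat.cast_succ, add_smul, one_smul]
        abel
    have h := hk M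
    rw [ha, Module.End.one_apply, left_eq_add] at h
    exact (smul_eq_zero.1 h).resolve_left hMF
  have hc : IsCompl (LinearMap.range (a - 1)) (LinearMap.ker (a - 1)) := by
    refine ⟨hdisj, codisjoint_iff.2 (Submodule.eq_top_of_disjoint _ _ ?_ hdisj)⟩
    rw [LinearMap.finrank_range_add_finrank_ker]
  have horth : ∀ x ∈ LinearMap.range (a - 1), ∀ y ∈ LinearMap.ker (a - 1), B x y = 0 := by
    rintro _ ⟨v, rfl⟩ b hb
    rw [LinearMap.mem_ker, LinearMap.sub_apply, Module.End.one_apply, sub_eq_zero] at hb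
    rw [LinearMap.sub_apply, Module.End.one_apply, map_sub, LinearMap.sub_apply]
    conv_lhs => rw [← hb, hiso, hb]
    rw [sub_self]
  refine ⟨hc, horth, fun x hx h => hnd x fun z => ?_, fun T hT => ⟨?_, fun v hv => ?_⟩, fun x hx hfix => ?_⟩
  · obtain ⟨w, hw, k, hk, rfl⟩ := Submodule.mem_sup.1 ((codisjoint_iff.1 hc.2).ge (Submodule.mem_top (x := z)))
    rw [map_add, h w hw, horth x hx k hk, add_zero]
  · rintro _ ⟨v, rfl⟩
    exact ⟨T v, (LinearMap.congr_fun (hT.sub_right (Commute.one_right _)).eq v).symm⟩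
  · rw [LinearMap.mem_ker] at hv ⊢
    have h := LinearMap.congr_fun (hT.sub_right (Commute.one_right _)).eq v
    rw [Module.End.mul_apply, Module.End.mul_apply, hv, map_zero] at h
    exact h.symm
  · exact Submodule.disjoint_def.1 hdisj x hx (by
      rw [LinearMap.mem_ker, LinearMap.sub_apply, Module.End.one_apply, hfix, sub_self])

/-- A semisimple element of prime order and the space it moves. -/
theorem cond_moved (hnd : ∀ x, (∀ y, B x y = 0) → x = 0) (hrefl : ∀ x y, B x y = 0 → B y x = 0)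
    (a : Module.End F V) (hiso : ∀ x y, B (a x) (a y) = B x y) {r : ℕ} (hr : r.Prime) (hr2 : r ≠ 2)
    (hrF : (r : F) ≠ 0) (ha : a ^ r = 1) (ha1 : a ≠ 1) :
    Cond qq (finrank F (LinearMap.range (a - 1))) r := by
  obtain ⟨-, -, hndW, hinv, hfix⟩ := split B hnd hrefl a hiso hrF ha
  set W := LinearMap.range (a - 1) with hW
  haveI : Nontrivial W :=
    Submodule.nontrivial_iff_ne_bot.2 fun h => ha1 (sub_eq_zero.1 (LinearMap.range_eq_bot.1 h))
  let a' : Module.End F W := a.restrict (hinv a (Commute.refl a)).1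
  have ha' : a' ^ r = 1 := by
    refine LinearMap.ext fun v => Subtype.ext ?_
    rw [Module.End.pow_restrict r, LinearMap.restrict_coe_apply, ha]
    rfl
  have hfix' : ∀ v : W, a' v = v → v = 0 := fun v hv => Subtype.ext (hfix v v.2 (congrArg Subtype.val hv))
  exact cond_of_fpf (B.compl₁₂ W.subtype W.subtype)
    (fun x hx => Subtype.ext (hndW x x.2 fun y hy => hx ⟨y, hy⟩)) (fun x y h => hrefl _ _ h) a'
    (fun x y => hiso x y) (orderOf_fpf hr ha' hfix') (by have := hr.two_le; omega) (fpf_of_prime hr ha' hfix')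

/-- Commuting elements of two odd prime orders. -/
theorem pair_cases (hnd : ∀ x, (∀ y, B x y = 0) → x = 0) (hrefl : ∀ x y, B x y = 0 → B y x = 0)
    (a b : Module.End F V) (hiso : ∀ x y, B (a x) (a y) = B x y) (hisob : ∀ x y, B (b x) (b y) = B x y)
    (hab : Commute a b) {r s : ℕ} (hr : r.Prime) (hs : s.Prime) (hrs : r ≠ s) (hr2 : r ≠ 2) (hs2 : s ≠ 2)
    (hrF : (r : F) ≠ 0) (hsF : (s : F) ≠ 0) (ha : a ^ r = 1) (hb : b ^ s = 1) (ha1 : a ≠ 1) (hb1 : b ≠ 1) :
    Cond qq (finrank F V) (r * s) ∨ ∃ d₁ d₂, 1 ≤ d₁ ∧ 1 ≤ d₂ ∧ 2 * (d₁ + d₂) ≤ finrank F V ∧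
      Dv qq d₁ r ∧ Dv qq d₂ s := by
  obtain ⟨hcA, -, hndW, hinv, hfix⟩ := split B hnd hrefl a hiso hrF ha
  set W := LinearMap.range (a - 1) with hW
  by_cases hbW : ∀ v ∈ W, b v = v
  · right
    obtain ⟨d₁, h11, h12, h13⟩ := cond_moved B hnd hrefl a hiso hr hr2 hrF ha ha1
    obtain ⟨d₂, h21, h22, h23⟩ := cond_moved B hnd hrefl b hisob hs hs2 hsF hb hb1
    have hle : LinearMap.range (b - 1) ≤ LinearMap.ker (a - 1) := by
      rintro _ ⟨z, rfl⟩
      obtain ⟨w, hw, k, hk, rfl⟩ := Submodule.mem_sup.1 ((codisjoint_iff.1 hcA.2).ge (Submodule.mem_top (x := z)))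
      rw [map_add, show (b - 1) w = 0 by simp [hbW w hw], zero_add, LinearMap.sub_apply, Module.End.one_apply]
      exact sub_mem ((hinv b hab.symm).2 k hk) hk
    have h3 := Submodule.finrank_mono hle
    have h4 := Submodule.finrank_add_eq_of_isCompl hcA
    exact ⟨d₁, d₂, h11, h21, by rw [← hW] at h12; omega, h13, h23⟩
  left
  let a' : Module.End F W := a.restrict (hinv a (Commute.refl a)).1
  let b' : Module.End F W := b.restrict (hinv b hab.symm).1
  let B' : W →ₗ[F] W →ₗ[F] F := B.compl₁₂ W.subtype W.subtype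
  have hb' : b' ^ s = 1 := by
    refine LinearMap.ext fun v => Subtype.ext ?_
    rw [Module.End.pow_restrict s, LinearMap.restrict_coe_apply, hb]
    rfl
  have ha' : a' ^ r = 1 := by
    refine LinearMap.ext fun v => Subtype.ext ?_
    rw [Module.End.pow_restrict r, LinearMap.restrict_coe_apply, ha]
    rfl
  have hab' : Commute a' b' := LinearMap.ext fun v => Subtype.ext (LinearMap.congr_fun hab.eq v)
  obtain ⟨-, -, hndZ, hinvZ, hfixZ⟩ := split B' (fun x hx => Subtype.ext (hndW x x.2 fun y hy => hx ⟨y, hy⟩))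
    (fun x y h => hrefl _ _ h) b' (fun x y => hisob x y) hsF hb'
  set Z := LinearMap.range (b' - 1) with hZ
  have hb'1 : b' ≠ 1 := fun h => hbW fun v hv => congrArg Subtype.val (LinearMap.congr_fun h (⟨v, hv⟩ : W))
  haveI : Nontrivial Z :=
    Submodule.nontrivial_iff_ne_bot.2 fun h => hb'1 (sub_eq_zero.1 (LinearMap.range_eq_bot.1 h))
  let A : Module.End F Z := a'.restrict (hinvZ a' hab').1
  let C : Module.End F Z := b'.restrict (hinvZ b' (Commute.refl b')).1
  have hA : A ^ r = 1 := by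
    refine LinearMap.ext fun v => Subtype.ext ?_
    rw [Module.End.pow_restrict r, LinearMap.restrict_coe_apply, ha']
    rfl
  have hC : C ^ s = 1 := by
    refine LinearMap.ext fun v => Subtype.ext ?_
    rw [Module.End.pow_restrict s, LinearMap.restrict_coe_apply, hb']
    rfl
  have hAC : Commute A C := LinearMap.ext fun v => Subtype.ext (LinearMap.congr_fun hab'.eq v)
  have hfA : ∀ v : Z, A v = v → v = 0 := fun v hv => Subtype.ext (Subtype.ext (hfix v.1.1 v.1.2
    (congrArg (fun w : Z => ((w : W) : V)) hv)))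
  have hfC : ∀ v : Z, C v = v → v = 0 := fun v hv => Subtype.ext (hfixZ v.1 v.2 (congrArg Subtype.val hv))
  have hord : orderOf (A * C) = r * s := by
    rw [hAC.orderOf_mul_eq_mul_orderOf_of_coprime, orderOf_fpf hr hA hfA, orderOf_fpf hs hC hfC]
    rw [orderOf_fpf hr hA hfA, orderOf_fpf hs hC hfC]
    exact (Nat.coprime_primes hr hs).2 hrs
  have h := cond_of_fpf (B'.compl₁₂ Z.subtype Z.subtype)
    (fun x hx => Subtype.ext (hndZ x x.2 fun y hy => hx ⟨y, hy⟩)) (fun x y h => hrefl _ _ h) (A * C)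
    (fun x y => (hiso _ _).trans (hisob x.1.1 y.1.1)) hord (by
      have := Nat.mul_le_mul hr.two_le hs.two_le
      omega) (fun k hk v hv => by
        have hpow : ∀ j : ℕ, ((A * C) ^ (k * j)) v = v := by
          intro j
          induction j with
          | zero => simp
          | succ j ih => rw [mul_add, mul_one, pow_add, Module.End.mul_apply, hv, ih]
        have h1 := hpow s
        rw [hAC.mul_pow, mul_comm k s, pow_mul C, hC, one_pow, mul_one, mul_comm s k] at h1
        have h2 := hpow r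
        rw [hAC.mul_pow, mul_comm k r, pow_mul A, hA, one_pow, one_mul, mul_comm r k] at h2
        by_cases hrk : r ∣ k
        · refine hfC v (fix_of_pow hs hC (fun hsk => hk ?_) h2)
          rcases hs.dvd_mul.1 hsk with h' | h'
          · obtain ⟨j, rfl⟩ := (Nat.coprime_primes hr hs).2 hrs |>.mul_dvd_of_dvd_of_dvd hrk h'
            rw [pow_mul, ← hord, pow_orderOf_eq_one, one_pow]
          · exact absurd ((Nat.prime_dvd_prime_iff_eq hs hr).1 h').symm hrs
        · refine hfA v (fix_of_pow hr hA (fun h' => ?_) h1)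
          exact (hr.dvd_mul.1 h').elim hrk fun h' => hrs ((Nat.prime_dvd_prime_iff_eq hr hs).1 h'))
  exact h.mono ((Submodule.finrank_le Z).trans (Submodule.finrank_le W))

/-- A commuting map squaring to a sign. -/
theorem two_cases [Nontrivial V] (h2 : (2 : F) ≠ 0) (hnd : ∀ x, (∀ y, B x y = 0) → x = 0)
    (hrefl : ∀ x y, B x y = 0 → B y x = 0)
    (a z : Module.End F V) (hiso : ∀ x y, B (a x) (a y) = B x y) (hisoz : ∀ x y, B (z x) (z y) = B x y)
    (haz : Commute a z) {s : ℕ} (hs : s.Prime) (hs2 : s ≠ 2) (ha : a ^ s = 1) (hfix : ∀ v, a v = v → v = 0)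
    (hz : z * z = 1 ∨ z * z = -1) (hz1 : z ≠ 1) (hz2 : z ≠ -1) :
    Cond qq (finrank F V - 2) s ∨ Dv qq (finrank F V / 2) (4 * s) := by
  rcases hz with hz | hz
  · left
    have hzz : ∀ v, z (z v) = v := fun v => by rw [← Module.End.mul_apply, hz]; rfl
    have hhalf : ∀ v : V, (2 : F)⁻¹ • (v + v) = v := fun v => by
      rw [← two_smul F, smul_smul, inv_mul_cancel₀ h2, one_smul]
    set P := LinearMap.ker (z - 1) with hP
    set N := LinearMap.ker (z + 1) with hN
    have hPm : ∀ v, v ∈ P ↔ z v = v := fun v => by simp [hP, sub_eq_zero]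
    have hNm : ∀ v, v ∈ N ↔ z v = -v := fun v => by simp [hN, add_eq_zero_iff_eq_neg]
    have horth : ∀ x ∈ P, ∀ y ∈ N, B x y = 0 := by
      intro x hx y hy
      have h1 := hisoz x y
      rw [(hPm x).1 hx, (hNm y).1 hy, map_neg] at h1
      have h2' : (2 : F) * B x y = 0 := by linear_combination -h1
      exact (mul_eq_zero.1 h2').resolve_left h2
    have hsup : ∀ v, ∃ x ∈ P, ∃ y ∈ N, x + y = v := fun v =>
      ⟨(2 : F)⁻¹ • (v + z v), (hPm _).2 (by rw [map_smul, map_add, hzz, add_comm]),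
        (2 : F)⁻¹ • (v - z v), (hNm _).2 (by rw [map_smul, map_sub, hzz, ← smul_neg, neg_sub]),
        by rw [← smul_add, show v + z v + (v - z v) = v + v by abel, hhalf]⟩
    have hP0 : P ≠ ⊥ := fun h => hz2 (LinearMap.ext fun v => by
      obtain ⟨x, hx, y, hy, rfl⟩ := hsup v
      rw [h, Submodule.mem_bot] at hx
      simp [hx, (hNm y).1 hy])
    have hN0 : N ≠ ⊥ := fun h => hz1 (LinearMap.ext fun v => by
      obtain ⟨x, hx, y, hy, rfl⟩ := hsup v
      rw [h, Submodule.mem_bot] at hy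
      simp [hy, (hPm x).1 hx])
    have hdisj : Disjoint P N := by
      rw [Submodule.disjoint_def]
      intro v h1 h2'
      have h3 := ((hPm v).1 h1).symm.trans ((hNm v).1 h2')
      rw [eq_neg_iff_add_eq_zero, ← two_smul F, smul_eq_zero] at h3
      exact h3.resolve_left h2
    have hsum : finrank F P + finrank F N = finrank F V := by
      refine Submodule.finrank_add_eq_of_isCompl ⟨hdisj, codisjoint_iff.2 (eq_top_iff.2 fun v _ => ?_)⟩
      obtain ⟨x, hx, y, hy, rfl⟩ := hsup v
      exact Submodule.add_mem_sup hx hy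
    have hinvP : ∀ v ∈ P, a v ∈ P := fun v hv => (hPm _).2 (by
      rw [← Module.End.mul_apply, ← haz.eq, Module.End.mul_apply, (hPm v).1 hv])
    have hinvN : ∀ v ∈ N, a v ∈ N := fun v hv => (hNm _).2 (by
      rw [← Module.End.mul_apply, ← haz.eq, Module.End.mul_apply, (hNm v).1 hv, map_neg])
    have hpowN : (a.restrict hinvN) ^ s = 1 := LinearMap.ext fun v => Subtype.ext (by
      rw [Module.End.pow_restrict s, LinearMap.restrict_coe_apply, ha]; rfl)
    have hpowP : (a.restrict hinvP) ^ s = 1 := LinearMap.ext fun v => Subtype.ext (by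
      rw [Module.End.pow_restrict s, LinearMap.restrict_coe_apply, ha]; rfl)
    have hndP : ∀ x : P, (∀ y : P, B x y = 0) → x = 0 := fun x hx => Subtype.ext (hnd x fun w => by
      obtain ⟨u, hu, y, hy, rfl⟩ := hsup w
      rw [map_add, hx ⟨u, hu⟩, horth x x.2 y hy, add_zero])
    have hndN : ∀ x : N, (∀ y : N, B x y = 0) → x = 0 := fun x hx => Subtype.ext (hnd x fun w => by
      obtain ⟨u, hu, y, hy, rfl⟩ := hsup w
      rw [map_add, hx ⟨y, hy⟩, hrefl _ _ (horth u hu x x.2), zero_add])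
    have hfP : ∀ v : P, a.restrict hinvP v = v → v = 0 := fun v hv =>
      Subtype.ext (hfix v (congrArg Subtype.val hv))
    have hfN : ∀ v : N, a.restrict hinvN v = v → v = 0 := fun v hv =>
      Subtype.ext (hfix v (congrArg Subtype.val hv))
    haveI : Nontrivial P := Submodule.nontrivial_iff_ne_bot.2 hP0
    obtain ⟨j, hj⟩ := even_finrank (B.compl₁₂ N.subtype N.subtype) h2 hndN (a.restrict hinvN)
      (fun x y => hiso x y) (hs.odd_of_ne_two hs2) hpowN hfN
    have hN1 : 1 ≤ finrank F N := Nat.one_le_iff_ne_zero.2 fun h => hN0 (Submodule.finrank_eq_zero.1 h)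
    exact (cond_of_fpf (B.compl₁₂ P.subtype P.subtype) hndP (fun x y h => hrefl _ _ h) (a.restrict hinvP)
      (fun x y => hiso x y) (orderOf_fpf hs hpowP hfP) (by have := hs.two_le; omega)
      (fpf_of_prime hs hpowP hfP)).mono (by omega)
  · have hne : (-1 : Module.End F V) ≠ 1 := fun h => by
      obtain ⟨v, hv⟩ := exists_ne (0 : V)
      have h1 := LinearMap.congr_fun h v
      rw [LinearMap.neg_apply, Module.End.one_apply, neg_eq_iff_add_eq_zero, ← two_smul F, smul_eq_zero] at h1
      exact hv (h1.resolve_left h2)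
    have hz4 : z ^ 4 = 1 := by rw [show 4 = 2 * 2 from rfl, pow_mul, pow_two z, hz, neg_one_sq]
    have hzo : orderOf z = 4 := orderOf_eq_prime_pow (p := 2) (n := 1) (by rw [pow_one, pow_two, hz]; exact hne)
      (by simpa using hz4)
    have hord : orderOf (z * a) = 4 * s := by
      have hsp : (Nat.Coprime 4 s) := by
        rw [show 4 = 2 ^ 2 from rfl]
        exact ((Nat.coprime_primes Nat.prime_two hs).2 hs2.symm).pow_left 2
      rw [haz.symm.orderOf_mul_eq_mul_orderOf_of_coprime (by rwa [hzo, orderOf_fpf hs ha hfix]), hzo,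
        orderOf_fpf hs ha hfix]
    obtain ⟨d, hd1, hd2, hd⟩ := cond_of_fpf B hnd hrefl (z * a) (fun x y => (hisoz _ _).trans (hiso x y)) hord
      (by have := hs.two_le; omega) (fun k hk v hv => by
        have hpow : ∀ j : ℕ, ((z * a) ^ (k * j)) v = v := by
          intro j
          induction j with
          | zero => simp
          | succ j ih => rw [mul_add, mul_one, pow_add, Module.End.mul_apply, hv, ih]
        have h1 := hpow s
        rw [haz.symm.mul_pow, mul_comm k s, pow_mul a, ha, one_pow, mul_one] at h1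
        have hneg : ∀ w : V, w = -w → w = 0 := fun w hw => by
          rw [eq_neg_iff_add_eq_zero, ← two_smul F, smul_eq_zero] at hw
          exact hw.resolve_left h2
        have hso : Odd s := hs.odd_of_ne_two hs2
        rcases Nat.even_or_odd k with ⟨j, hj⟩ | hko
        · rcases Nat.even_or_odd j with ⟨i, hi⟩ | hjo
          · rw [haz.symm.mul_pow, show k = 4 * i by omega, pow_mul z, hz4, one_pow, one_mul] at hv
            refine hfix v (fix_of_pow hs ha (fun h => hk ?_) hv)
            rw [show k = 4 * i by omega, haz.symm.mul_pow, pow_mul z, hz4, one_pow, one_mul]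
            obtain ⟨c, hc⟩ := h
            rw [hc, pow_mul, ha, one_pow]
          · refine hneg v ?_
            rw [show s * k = 2 * (s * j) by rw [hj]; ring, pow_mul z, pow_two z, hz, (hso.mul hjo).neg_one_pow,
              LinearMap.neg_apply, Module.End.one_apply] at h1
            exact h1.symm
        · refine hneg v ?_
          have h3 : (z ^ (2 * (s * k))) v = v := by rw [two_mul, pow_add, Module.End.mul_apply, h1, h1]
          rw [pow_mul z, pow_two z, hz, (hso.mul hko).neg_one_pow, LinearMap.neg_apply, Module.End.one_apply] at h3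
          exact h3.symm)
    rcases Nat.lt_or_ge (2 * d + 1) (finrank F V) with h | h
    · exact Or.inl ⟨d, hd1, by omega, hd.of_dvd (dvd_mul_left _ _)⟩
    · exact Or.inr (by rwa [show finrank F V / 2 = d by omega])

/-- A commuting non-trivial unipotent isometry. -/
theorem unipotent_cases [Nontrivial V] (h2 : (2 : F) ≠ 0) (hnd : ∀ x, (∀ y, B x y = 0) → x = 0)
    (hrefl : ∀ x y, B x y = 0 → B y x = 0)
    (a u : Module.End F V) (hiso : ∀ x y, B (a x) (a y) = B x y) (hisou : ∀ x y, B (u x) (u y) = B x y)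
    (hau : Commute a u) {s : ℕ} (hs : s.Prime) (hs2 : s ≠ 2) (ha : a ^ s = 1) (hfix : ∀ v, a v = v → v = 0)
    (hnil : IsNilpotent (u - 1)) (hu : u ≠ 1) : Cond qq (finrank F V - 2) s := by
  classical
  set N := u - 1 with hN
  have hN0 : N ≠ 0 := fun h => hu (sub_eq_zero.1 h)
  have hcN : Commute a N := hau.sub_right (Commute.one_right _)
  have horth : ∀ x ∈ LinearMap.range N, ∀ y ∈ LinearMap.ker N, B x y = 0 := by
    rintro _ ⟨x, rfl⟩ y hy
    have hy' : u y = y := by simpa [hN, sub_eq_zero] using hy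
    rw [hN, LinearMap.sub_apply, Module.End.one_apply, map_sub, LinearMap.sub_apply]
    conv_lhs => rw [← hy', hisou, hy']
    rw [sub_self]
  set R := LinearMap.range N ⊓ LinearMap.ker N with hR
  have hRne : R ≠ ⊥ := by
    obtain ⟨K, hK⟩ : ∃ K, N ^ K = 0 := hnil
    have hex : ∃ k, N ^ k = 0 := ⟨K, hK⟩
    have hk2 : 2 ≤ Nat.find hex := by
      by_contra h
      have := Nat.find_spec hex
      rcases (show Nat.find hex = 0 ∨ Nat.find hex = 1 by omega) with e | e <;> rw [e] at this
      · rw [pow_zero] at this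
        exact one_ne_zero this
      · rw [pow_one] at this
        exact hN0 this
    obtain ⟨j, hj⟩ : ∃ j, Nat.find hex = j + 2 := ⟨Nat.find hex - 2, by omega⟩
    have hmin := Nat.find_min hex (show j + 1 < Nat.find hex by omega)
    obtain ⟨v, hv⟩ : ∃ v, (N ^ (j + 1)) v ≠ 0 := by
      by_contra h
      push Not at h
      exact hmin (LinearMap.ext h)
    intro hbot
    refine hv ((Submodule.eq_bot_iff _).1 hbot _ ⟨⟨(N ^ j) v, by rw [pow_succ', Module.End.mul_apply]⟩, ?_⟩)
    rw [SetLike.mem_coe, LinearMap.mem_ker, ← Module.End.mul_apply, ← pow_succ', ← hj, Nat.find_spec hex]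
    rfl
  have hRinv : ∀ v ∈ R, a v ∈ R := by
    rintro v ⟨⟨x, rfl⟩, hx⟩
    refine ⟨⟨a x, (LinearMap.congr_fun hcN.eq x).symm⟩, ?_⟩
    rw [SetLike.mem_coe, LinearMap.mem_ker] at hx ⊢
    rw [← Module.End.mul_apply N a, ← hcN.eq, Module.End.mul_apply, hx, map_zero]
  obtain ⟨L, hL, hLR, hL0, hirr, -⟩ := exists_min a R hRne hRinv
  haveI : Nontrivial L := Submodule.nontrivial_iff_ne_bot.2 hL0
  have hsing : ∀ x ∈ L, ∀ y ∈ L, B x y = 0 := fun x hx y hy => horth x (hLR hx).1 y (hLR hy).2
  have hpow : (a.restrict hL) ^ s = 1 := LinearMap.ext fun v => Subtype.ext (by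
    rw [Module.End.pow_restrict s, LinearMap.restrict_coe_apply, ha]; rfl)
  have hfixL : ∀ v : L, a.restrict hL v = v → v = 0 := fun v hv => Subtype.ext (hfix v (congrArg Subtype.val hv))
  have hord := orderOf_fpf hs hpow hfixL
  have hD := two_mul_finrank_le B hnd L hsing
  have hD1 : 1 ≤ finrank F L := Nat.one_le_iff_ne_zero.2 fun h => hL0 (Submodule.finrank_eq_zero.1 h)
  rcases Nat.lt_or_ge (2 * finrank F L + 1) (finrank F V) with hlt | hge
  · exact ⟨_, hD1, by omega, Or.inr (irreducible_dvd _ hord hs.ne_zero hirr)⟩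
  obtain ⟨n, hn⟩ := even_finrank B h2 hnd a hiso (hs.odd_of_ne_two hs2) ha hfix
  have hrk := LinearMap.finrank_range_add_finrank_ker N
  have h1 := Submodule.finrank_mono (hLR.trans inf_le_left)
  have h2' := Submodule.finrank_mono (hLR.trans inf_le_right)
  have hker : LinearMap.ker N = L :=
    (Submodule.eq_of_le_of_finrank_eq (hLR.trans inf_le_right) (by omega)).symm
  have hran : LinearMap.range N = L :=
    (Submodule.eq_of_le_of_finrank_eq (hLR.trans inf_le_left) (by omega)).symm
  let N' : V →ₗ[F] L := N.codRestrict L fun v => hran.le ⟨v, rfl⟩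
  obtain ⟨σ, hσ⟩ := N'.exists_rightInverse_of_surjective (LinearMap.range_eq_top.2 fun x => by
    obtain ⟨v, hv⟩ := hran.ge x.2
    exact ⟨v, Subtype.ext hv⟩)
  have hσ' : ∀ x : L, N (σ x) = x := fun x => congrArg Subtype.val (LinearMap.congr_fun hσ x)
  obtain ⟨d, hd1, hd, hdM⟩ := irreducible_form (a.restrict hL) hord (by have := hs.two_le; omega) hirr
    (B.compl₁₂ σ L.subtype) (fun x y => by
      show B (σ (a.restrict hL x)) (a y) = B (σ x) y
      have hmem : σ (a.restrict hL x) - a (σ x) ∈ L := hker.le (LinearMap.mem_ker.2 (by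
        rw [map_sub, hσ', ← Module.End.mul_apply N a, ← hcN.eq, Module.End.mul_apply, hσ']
        exact sub_self _))
      have h0 := hsing _ hmem _ (hL y y.2)
      rw [map_sub, LinearMap.sub_apply, sub_eq_zero] at h0
      rw [h0, hiso]) (fun y hy => by
      refine Subtype.ext (hnd y fun z => hrefl _ _ ?_)
      have hmem : z - σ (N' z) ∈ L := hker.le (LinearMap.mem_ker.2 (by
        rw [map_sub, hσ']
        exact sub_self _))
      rw [show z = σ (N' z) + (z - σ (N' z)) by abel, map_add, LinearMap.add_apply, hsing _ hmem _ y.2, add_zero]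
      exact hy (N' z))
  exact ⟨d, hd1, by omega, Or.inl hdM⟩

/-- A square discriminant. -/
theorem disc_cases [Nontrivial V] (hodd : Odd qq) (B : LinearMap.BilinForm F V) (hsymm : ∀ x y, B x y = B y x)
    (hnd : ∀ x, (∀ y, B x y = 0) → x = 0) (a : Module.End F V) (hiso : ∀ x y, B (a x) (a y) = B x y)
    {s : ℕ} (hs : s.Prime) (hs2 : s ≠ 2) (ha : a ^ s = 1) (hfix : ∀ v, a v = v → v = 0) {n : ℕ}
    (b : Basis (Fin (2 * n)) F V) (hsq : IsSquare (LinearMap.BilinForm.toMatrix b B).det) :
    Cond qq (2 * n - 2) s ∨ Dv qq n (4 * s) := by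
  classical
  have hV : finrank F V = 2 * n := by rw [Module.finrank_eq_card_basis b, Fintype.card_fin]
  have h2 : (2 : F) ≠ 0 := fun h => Ring.two_ne_zero (fun hc => by
    have := FiniteField.even_card_of_char_two hc
    obtain ⟨w, hw⟩ := hodd
    omega) h
  have hcop : Nat.Coprime 4 s := by
    rw [show 4 = 2 ^ 2 from rfl]
    exact ((Nat.coprime_primes Nat.prime_two hs).2 hs2.symm).pow_left 2
  have hord := orderOf_fpf hs ha hfix
  have hs3 : 3 ≤ s := by have := hs.two_le; omega
  obtain ⟨L, hmin, ⟨d, hd1, hdL, hdV, hdM⟩ | ⟨hD1, hD2, hDM, hsing⟩⟩ :=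
    min_cases B hnd (fun x y h => by rwa [hsymm]) a hiso hord hs3 (fpf_of_prime hs ha hfix)
  · rcases Nat.lt_or_ge d n with h | h
    · exact Or.inl ⟨d, hd1, by omega, Or.inl hdM⟩
    obtain rfl : d = n := by omega
    have hirr : ∀ L' : Submodule F V, (∀ v ∈ L', a v ∈ L') → L' = ⊥ ∨ L' = ⊤ := fun L' hL' =>
      or_iff_not_imp_left.2 fun h0 => Submodule.eq_top_of_finrank_eq (le_antisymm (Submodule.finrank_le _)
        ((hV.trans hdL.symm).le.trans (hmin L' hL' h0)))
    exact Or.inr (Or.inl (hcop.mul_dvd_of_dvd_of_dvd (irreducible_disc hodd a hord hs3 hirr B hiso hsymm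
      (fun y hy => hnd y fun x => by rw [hsymm]; exact hy x) hd1 hV hdM b hsq) hdM))
  rcases Nat.lt_or_ge (finrank F L) n with h | h
  · exact Or.inl ⟨_, hD1, by omega, Or.inr hDM⟩
  have hLn : finrank F L = n := by omega
  rw [hLn] at hDM
  right
  right
  refine hcop.mul_dvd_of_dvd_of_dvd ?_ hDM
  obtain ⟨C, hC⟩ := L.exists_isCompl
  have hCn : finrank F C = n := by
    have := Submodule.finrank_add_eq_of_isCompl hC
    omega
  let bL := Module.finBasisOfFinrankEq F L hLn
  let bC := Module.finBasisOfFinrankEq F C hCn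
  let b' : Basis (Fin n ⊕ Fin n) F V := (bL.prod bC).map (L.prodEquivOfIsCompl C hC)
  have hl : ∀ i, b' (Sum.inl i) = (bL i : V) := fun i => by simp [b']
  set P : Matrix (Fin n) (Fin n) F := Matrix.of fun i j => B (bL i : V) (bC j : V)
  set R : Matrix (Fin n) (Fin n) F := Matrix.of fun i j => B (bC i : V) (bC j : V)
  have hG : LinearMap.BilinForm.toMatrix b' B = Matrix.fromBlocks 0 P P.transpose R := by
    ext i j
    rw [LinearMap.BilinForm.toMatrix_apply]
    rcases i with i | i <;> rcases j with j | j <;> simp [b', P, R]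
    · exact hsing _ (bL i).2 _ (bL j).2
    · exact hsymm _ _
  have hdet : (LinearMap.BilinForm.toMatrix b' B).det = (-1) ^ n * (P.det * P.det) := by
    have hJ : (Matrix.fromBlocks (0 : Matrix (Fin n) (Fin n) F) (-1 : Matrix (Fin n) (Fin n) F) (1 : Matrix (Fin n) (Fin n) F) 0).det = 1 := by
      have e : Matrix.fromBlocks (0 : Matrix (Fin n) (Fin n) F) (-1 : Matrix (Fin n) (Fin n) F) (1 : Matrix (Fin n) (Fin n) F) 0 =
          Matrix.fromBlocks (1 : Matrix (Fin n) (Fin n) F) (-1 : Matrix (Fin n) (Fin n) F) 0 (1 : Matrix (Fin n) (Fin n) F) *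
            Matrix.fromBlocks (1 : Matrix (Fin n) (Fin n) F) 0 (1 : Matrix (Fin n) (Fin n) F) (1 : Matrix (Fin n) (Fin n) F) *
            Matrix.fromBlocks (1 : Matrix (Fin n) (Fin n) F) (-1 : Matrix (Fin n) (Fin n) F) 0 (1 : Matrix (Fin n) (Fin n) F) := by
        simp [Matrix.fromBlocks_multiply]
      rw [e, Matrix.det_mul, Matrix.det_mul, Matrix.det_fromBlocks_zero₂₁, Matrix.det_fromBlocks_zero₁₂]
      simp
    calc (LinearMap.BilinForm.toMatrix b' B).det
        = (Matrix.fromBlocks 0 P P.transpose R * Matrix.fromBlocks (0 : Matrix (Fin n) (Fin n) F) (-1 : Matrix (Fin n) (Fin n) F) (1 : Matrix (Fin n) (Fin n) F) 0).det := by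
          rw [hG, Matrix.det_mul, hJ, mul_one]
      _ = (-1) ^ n * (P.det * P.det) := by
          rw [Matrix.fromBlocks_multiply]
          simp only [Matrix.zero_mul, Matrix.mul_one, Matrix.mul_zero, zero_add, add_zero, Matrix.mul_neg, neg_zero]
          rw [Matrix.det_fromBlocks_zero₁₂, Matrix.det_neg, Matrix.det_transpose, Fintype.card_fin]
          ring
  let e : Fin n ⊕ Fin n ≃ Fin (2 * n) := finSumFinEquiv.trans (finCongr (two_mul n).symm)
  have hrel := CfsgLib.Classical.Quad.det_gram_of_isometry (b'.reindex e) b B B (LinearEquiv.refl F V) (fun u v => rfl)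
  have hre : (LinearMap.BilinForm.toMatrix (b'.reindex e) B).det = (LinearMap.BilinForm.toMatrix b' B).det := by
    rw [← Matrix.det_submatrix_equiv_self e]
    congr 1
    ext i j
    simp [LinearMap.BilinForm.toMatrix_apply]
  rw [hre, hdet] at hrel
  have hb0 : (LinearMap.BilinForm.toMatrix b B).det ≠ 0 :=
    (LinearMap.BilinForm.nondegenerate_iff_det_ne_zero b).1 (LinearMap.BilinForm.nondegenerate_iff_ker_eq_bot.2
      ((Submodule.eq_bot_iff _).2 fun x hx => hnd x fun y => LinearMap.congr_fun (LinearMap.mem_ker.1 hx) y))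
  have hP0 : P.det ≠ 0 := by
    intro h0
    have hbb : (LinearMap.BilinForm.toMatrix b' B).det ≠ 0 :=
        (LinearMap.BilinForm.nondegenerate_iff_det_ne_zero b').1 (LinearMap.BilinForm.nondegenerate_iff_ker_eq_bot.2
          ((Submodule.eq_bot_iff _).2 fun x hx => hnd x fun y => LinearMap.congr_fun (LinearMap.mem_ker.1 hx) y))
    rw [hdet, h0, mul_zero, mul_zero] at hbb
    exact hbb rfl
  obtain ⟨y, hy⟩ := hsq
  obtain ⟨m, hm⟩ := hodd
  obtain ⟨w, hw⟩ : IsSquare ((-1 : F) ^ n) := by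
    set c := (LinearMap.toMatrix (b'.reindex e) b (LinearEquiv.refl F V : V →ₗ[F] V)).det
    refine ⟨c * y / P.det, ?_⟩
    rw [hy] at hrel
    field_simp
    linear_combination hrel
  have hw0 : w ≠ 0 := fun h => by
    rw [h, mul_zero] at hw
    exact pow_ne_zero _ (neg_ne_zero.2 one_ne_zero) hw
  have h1 : ((-1 : F) ^ n) ^ m = 1 := by
    rw [hw, ← pow_two, ← pow_mul, show 2 * m = qq - 1 by omega, FiniteField.pow_card_sub_one_eq_one w hw0]
  rcases Nat.even_or_odd (n * m) with he | ho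
  · have h4 : 4 ∣ qq ^ n - 1 := by
      rcases Nat.even_mul.1 he with ⟨i, hi⟩ | ⟨i, hi⟩
      · refine dvd_trans ?_ (show qq ^ 2 - 1 ∣ qq ^ n - 1 by
          rw [hi, ← two_mul, pow_mul]; exact Nat.sub_one_dvd_pow_sub_one _ i)
        exact ⟨m * (m + 1), Nat.sub_eq_of_eq_add (by rw [hm]; ring)⟩
      · refine dvd_trans ?_ (Nat.sub_one_dvd_pow_sub_one qq n)
        exact ⟨i, by omega⟩
    exact h4
  · exfalso
    rw [← pow_mul, ho.neg_one_pow, eq_comm, ← sub_eq_zero, sub_neg_eq_add, one_add_one_eq_two] at h1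
    exact h2 h1

end CfsgLib.HallGen.PrimeGraphBC
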