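import Cfsg.Agent.Lib.HallGen.PrimeGraphBC.Symplectic
import Cfsg.Agent.Lib.Known.OmegaCriterion

/-!
# Element orders with two prime divisors in odd-dimensional `Ω`
-/

set_option autoImplicit false

namespace CfsgLib.HallGen.PrimeGraphBC

open Module
open QuadraticMap (polar polarBilin)
open CfsgLib.Classical.Quad CfsgLib.Known.OmegaCriterion

variable {F : Type*} [Field F] [Fintype F]
variable {V : Type*} [AddCommGroup V] [Module F V] [FiniteDimensional F V] {Q : QuadraticForm F V}

local notation "qq" => Fintype.card F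

/-- The linear map of an isometry. -/
def oEnd (Q : QuadraticForm F V) : OQ Q →* Module.End F V where
  toFun x := ((x : V ≃ₗ[F] V) : V →ₗ[F] V)
  map_one' := rfl
  map_mul' _ _ := rfl

omit [Fintype F] [FiniteDimensional F V] in
theorem oEnd_injective : Function.Injective (oEnd Q) :=
  fun _ _ h => Subtype.ext (LinearEquiv.toLinearMap_injective h)

omit [Fintype F] [FiniteDimensional F V] in
theorem oEnd_ne_one {k : ℕ} (hk : k.Prime) {x : OQ Q} (hx : orderOf x = k) : oEnd Q x ≠ 1 := fun e =>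
  hk.ne_one (by rw [← hx, oEnd_injective (e.trans (map_one _).symm), orderOf_one])

omit [Fintype F] [FiniteDimensional F V] in
theorem polar_refl' (u v : V) (h : polarBilin Q u v = 0) : polarBilin Q v u = 0 :=
  (QuadraticMap.polar_comm Q v u).trans h

omit [Fintype F] [FiniteDimensional F V] in
theorem oEnd_preserves (x : OQ Q) (u v : V) : polarBilin Q (oEnd Q x u) (oEnd Q x v) = polarBilin Q u v :=
  OQ.map_polar x u v

theorem orth_odd_cases (hQ : (polarBilin Q).Nondegenerate) {n : ℕ} (hV : finrank F V = 2 * n + 1) {r s : ℕ}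
    (hr : r.Prime) (hs : s.Prime) (hrs : r ≠ s) (hr2 : r ≠ 2) (hs2 : s ≠ 2) (hrF : (r : F) ≠ 0)
    (hsF : (s : F) ≠ 0) (g : OQ Q) (hg : orderOf g = r * s) : OddCrit qq n r s := by
  obtain ⟨h1, h2⟩ := pow_orders hr hs hg
  have := pair_cases (polarBilin Q) hQ.1 polar_refl' (oEnd Q (g ^ s)) (oEnd Q (g ^ r)) (oEnd_preserves _)
    (oEnd_preserves _) ((Commute.pow_pow_self g s r).map _) hr hs hrs hr2 hs2 hrF hsF
    (by rw [← map_pow, ← h1, pow_orderOf_eq_one, map_one]) (by rw [← map_pow, ← h2, pow_orderOf_eq_one, map_one])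
    (oEnd_ne_one hr h1) (oEnd_ne_one hs h2)
  rw [hV] at this
  rcases this with ⟨d, a, b, c⟩ | ⟨d₁, d₂, a, b, c, e⟩
  · exact Or.inl ⟨d, a, by omega, c⟩
  · exact Or.inr ⟨d₁, d₂, a, b, by omega, e⟩

/-- The moved space of a semisimple element of prime order, when it is as large as possible. -/
theorem moved_cases (hodd : Odd qq) (hQ : (polarBilin Q).Nondegenerate) {n : ℕ} (hV : finrank F V = 2 * n + 1)
    {s : ℕ} (hs : s.Prime) (hs2 : s ≠ 2) (hsF : (s : F) ≠ 0) (a : Module.End F V)
    (hiso : ∀ u v, polarBilin Q (a u) (a v) = polarBilin Q u v) (ha : a ^ s = 1) (ha1 : a ≠ 1) :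
    Cond qq (2 * n - 2) s ∨ finrank F (LinearMap.range (a - 1)) = 2 * n := by
  obtain ⟨-, -, hndW, hinv, hfix⟩ := split (polarBilin Q) hQ.1 polar_refl' a hiso hsF ha
  set W := LinearMap.range (a - 1) with hW
  obtain ⟨k, hk⟩ := even_finrank ((polarBilin Q).compl₁₂ W.subtype W.subtype) (two_ne hodd)
    (fun x hx => Subtype.ext (hndW x x.2 fun y hy => hx ⟨y, hy⟩)) (a.restrict (hinv a (Commute.refl a)).1)
    (fun x y => hiso x y) (hs.odd_of_ne_two hs2)
    (LinearMap.ext fun v => Subtype.ext (by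
      rw [Module.End.pow_restrict s, LinearMap.restrict_coe_apply, ha]; rfl))
    (fun v hv => Subtype.ext (hfix v v.2 (congrArg Subtype.val hv)))
  have h1 : finrank F W ≤ 2 * n + 1 := hV ▸ Submodule.finrank_le W
  rcases Nat.lt_or_ge (finrank F W) (2 * n) with h | h
  · exact Or.inl ((cond_moved (polarBilin Q) hQ.1 polar_refl' a hiso hs hs2 hsF ha ha1).shrink (hW ▸ h))
  · exact Or.inr (by omega)

theorem orth_char_cases {p : ℕ} [Fact p.Prime] [CharP F p] (hodd : Odd qq) (hQ : (polarBilin Q).Nondegenerate)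
    {n : ℕ} (hn : 1 ≤ n) (hV : finrank F V = 2 * n + 1) {s : ℕ} (hs : s.Prime) (hs2 : s ≠ 2) (hsp : p ≠ s)
    (g : OQ Q) (hg : orderOf g = p * s) : Cond qq (2 * n - 2) s := by
  have hp : p.Prime := Fact.out
  have hsF : (s : F) ≠ 0 := fun e =>
    hsp ((Nat.prime_dvd_prime_iff_eq hp hs).1 ((CharP.cast_eq_zero_iff F p s).1 e))
  obtain ⟨h1, h2⟩ := pow_orders hp hs hg
  set a := oEnd Q (g ^ p) with ha'
  set u := oEnd Q (g ^ s) with hu'
  have hiso : ∀ x y, polarBilin Q (a x) (a y) = polarBilin Q x y := oEnd_preserves _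
  have hisou : ∀ x y, polarBilin Q (u x) (u y) = polarBilin Q x y := oEnd_preserves _
  have ha : a ^ s = 1 := by rw [ha', ← map_pow, ← h2, pow_orderOf_eq_one, map_one]
  have hu : u ^ p = 1 := by rw [hu', ← map_pow, ← h1, pow_orderOf_eq_one, map_one]
  have hau : Commute a u := (Commute.pow_pow_self g p s).map _
  rcases moved_cases hodd hQ hV hs hs2 hsF a hiso ha (oEnd_ne_one hs h2) with h | hWn
  · exact h
  obtain ⟨hc, -, hndW, hinv, hfix⟩ := split (polarBilin Q) hQ.1 polar_refl' a hiso hsF ha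
  set W := LinearMap.range (a - 1) with hW
  set K := LinearMap.ker (a - 1) with hK
  haveI : CharP (Module.End F V) p := by
    haveI : Nontrivial V := Module.nontrivial_of_finrank_pos (R := F) (by omega)
    exact charP_of_injective_algebraMap (algebraMap F _).injective p
  have hN : (u - 1) ^ p = 0 := by rw [sub_pow_char_of_commute p (Commute.one_right _), one_pow, hu, sub_self]
  have huW := (hinv u hau.symm).1
  have huK := (hinv u hau.symm).2
  haveI : Nontrivial W := Module.nontrivial_of_finrank_pos (R := F) (by omega)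
  have hK1 : finrank F K = 1 := by
    have := Submodule.finrank_add_eq_of_isCompl hc
    omega
  obtain ⟨⟨k₀, hk₀⟩, hk0, hspan⟩ := finrank_eq_one_iff'.1 hK1
  have hu1 : u.restrict huW ≠ 1 := by
    intro e
    refine oEnd_ne_one hp h1 ?_
    show u = 1
    obtain ⟨c, hc'⟩ := hspan ⟨u k₀, huK k₀ hk₀⟩
    have hc'' : u k₀ = c • k₀ := (congrArg Subtype.val hc').symm
    have hc1 : c = 1 := by
      have hpk : ∀ j : ℕ, ((u - 1) ^ j) k₀ = (c - 1) ^ j • k₀ := by
        intro j
        induction j with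
        | zero => simp
        | succ j ih =>
          rw [pow_succ', Module.End.mul_apply, ih, map_smul, LinearMap.sub_apply, Module.End.one_apply, hc'',
            pow_succ (c - 1) j, mul_smul, sub_smul c, one_smul]
      have h3 := hpk p
      rw [hN, LinearMap.zero_apply, eq_comm, smul_eq_zero] at h3
      exact sub_eq_zero.1 (eq_zero_of_pow_eq_zero (h3.resolve_right fun e => hk0 (Subtype.ext e)))
    refine LinearMap.ext fun v => ?_
    obtain ⟨w, hw, k, hk, rfl⟩ := Submodule.mem_sup.1 ((codisjoint_iff.1 hc.2).ge (Submodule.mem_top (x := v)))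
    obtain ⟨t, ht⟩ := hspan ⟨k, hk⟩
    have ht' : k = t • k₀ := (congrArg Subtype.val ht).symm
    rw [map_add, show u w = w from congrArg Subtype.val (LinearMap.congr_fun e ⟨w, hw⟩), ht', map_smul, hc'', hc1,
      one_smul]
    rfl
  have := unipotent_cases ((polarBilin Q).compl₁₂ W.subtype W.subtype) (two_ne hodd)
    (fun x hx => Subtype.ext (hndW x x.2 fun y hy => hx ⟨y, hy⟩)) (fun x y h => polar_refl' _ _ h)
    (a.restrict (hinv a (Commute.refl a)).1) (u.restrict huW) (fun x y => hiso x y) (fun x y => hisou x y)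
    (LinearMap.ext fun v => Subtype.ext (LinearMap.congr_fun hau.eq v)) hs hs2
    (LinearMap.ext fun v => Subtype.ext (by
      rw [Module.End.pow_restrict s, LinearMap.restrict_coe_apply, ha]; rfl))
    (fun v hv => Subtype.ext (hfix v v.2 (congrArg Subtype.val hv)))
    ⟨p, by
      have huW' : ∀ v ∈ W, (u - 1) v ∈ W := fun v hv => W.sub_mem (huW v hv) hv
      rw [show u.restrict huW - 1 = (u - 1).restrict huW' from rfl, Module.End.pow_restrict p]
      exact LinearMap.ext fun v => Subtype.ext (by rw [LinearMap.restrict_coe_apply, hN]; rfl)⟩ hu1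
  rwa [hWn] at this

theorem orth_two_cases (hodd : Odd qq) (hQ : (polarBilin Q).Nondegenerate)
    (hR : reflGroup Q = ⊤) {n : ℕ} (hn : 1 ≤ n) (hV : finrank F V = 2 * n + 1) {s : ℕ} (hs : s.Prime)
    (hs2 : s ≠ 2) (hsF : (s : F) ≠ 0) (g : OQ Q) (hgc : g ∈ commutator (OQ Q)) (hg : orderOf g = 2 * s) :
    TwoCrit qq n s := by
  classical
  have h2 : (2 : F) ≠ 0 := two_ne hodd
  obtain ⟨h1, h1'⟩ := pow_orders Nat.prime_two hs hg
  set a := oEnd Q (g ^ 2) with ha'
  set z := oEnd Q (g ^ s) with hz'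
  have hiso : ∀ x y, polarBilin Q (a x) (a y) = polarBilin Q x y := oEnd_preserves _
  have hisoz : ∀ x y, polarBilin Q (z x) (z y) = polarBilin Q x y := oEnd_preserves _
  have ha : a ^ s = 1 := by rw [ha', ← map_pow, ← h1', pow_orderOf_eq_one, map_one]
  have hz2 : z * z = 1 := by rw [hz', ← map_mul, ← pow_two, ← h1, pow_orderOf_eq_one, map_one]
  have haz : Commute a z := (Commute.pow_pow_self g 2 s).map _
  obtain ⟨hpar, hsp⟩ := (mem_commutator_iff hQ hR _).1 (pow_mem hgc s)
  rcases moved_cases hodd hQ hV hs hs2 hsF a hiso ha (oEnd_ne_one hs h1') with h | hWn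
  · exact Or.inl h
  obtain ⟨hc, horth, hndW, hinv, hfix⟩ := split (polarBilin Q) hQ.1 polar_refl' a hiso hsF ha
  set W := LinearMap.range (a - 1) with hW
  set K := LinearMap.ker (a - 1) with hK
  haveI : Nontrivial W := Module.nontrivial_of_finrank_pos (R := F) (by omega)
  have hzW := (hinv z haz.symm).1
  have hzK := (hinv z haz.symm).2
  have haW := (hinv a (Commute.refl a)).1
  let B' : LinearMap.BilinForm F W := (polarBilin Q).compl₁₂ W.subtype W.subtype
  have hnd' : ∀ x, (∀ y, B' x y = 0) → x = 0 := fun x hx => Subtype.ext (hndW x x.2 fun y hy => hx ⟨y, hy⟩)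
  have haW' : (a.restrict haW) ^ s = 1 := LinearMap.ext fun v => Subtype.ext (by
    rw [Module.End.pow_restrict s, LinearMap.restrict_coe_apply, ha]; rfl)
  have hfixW : ∀ v : W, a.restrict haW v = v → v = 0 := fun v hv =>
    Subtype.ext (hfix v v.2 (congrArg Subtype.val hv))
  by_cases hgen : z.restrict hzW ≠ 1 ∧ z.restrict hzW ≠ -1
  · have := two_cases B' h2 hnd' (fun x y h => polar_refl' _ _ h) (a.restrict haW) (z.restrict hzW)
      (fun x y => hiso x y) (fun x y => hisoz x y) (LinearMap.ext fun v => Subtype.ext (LinearMap.congr_fun haz.eq v))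
      hs hs2 haW' hfixW (Or.inl (LinearMap.ext fun v => Subtype.ext (LinearMap.congr_fun hz2 v))) hgen.1 hgen.2
    rwa [hWn, Nat.mul_div_cancel_left _ two_pos] at this
  -- `z` is a sign on both summands
  obtain ⟨e, he, hze⟩ : ∃ e : F, (e = 1 ∨ e = -1) ∧ ∀ v ∈ W, z v = e • v := by
    rcases not_and_or.1 hgen with h | h <;> rw [ne_eq, not_not] at h
    · exact ⟨1, Or.inl rfl, fun v hv => by rw [one_smul]; exact congrArg Subtype.val (LinearMap.congr_fun h ⟨v, hv⟩)⟩
    · exact ⟨-1, Or.inr rfl, fun v hv => by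
        rw [neg_one_smul]; exact congrArg Subtype.val (LinearMap.congr_fun h ⟨v, hv⟩)⟩
  have hK1 : finrank F K = 1 := by
    have := Submodule.finrank_add_eq_of_isCompl hc
    omega
  obtain ⟨⟨k₀, hk₀⟩, hk0, hspan⟩ := finrank_eq_one_iff'.1 hK1
  have hk0' : k₀ ≠ 0 := fun e => hk0 (Subtype.ext e)
  obtain ⟨c, hc'⟩ := hspan ⟨z k₀, hzK k₀ hk₀⟩
  have hzc : z k₀ = c • k₀ := (congrArg Subtype.val hc').symm
  have hzK' : ∀ v ∈ K, z v = c • v := fun v hv => by
    obtain ⟨t, ht⟩ := hspan ⟨v, hv⟩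
    have ht' : v = t • k₀ := (congrArg Subtype.val ht).symm
    rw [ht']
    rw [map_smul, hzc, smul_comm]
  have hcc : c = 1 ∨ c = -1 := by
    have h3 := LinearMap.congr_fun hz2 k₀
    rw [Module.End.mul_apply, hzc, map_smul, hzc, smul_smul, Module.End.one_apply] at h3
    exact mul_self_eq_one_iff.1 (smul_left_injective F hk0' (h3.trans (one_smul F k₀).symm))
  have hdec : ∀ v, ∃ w ∈ W, ∃ k ∈ K, w + k = v := fun v =>
    Submodule.mem_sup.1 ((codisjoint_iff.1 hc.2).ge (Submodule.mem_top (x := v)))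
  have hmap : ∀ w ∈ W, ∀ k ∈ K, movMap (g ^ s) (w + k) = (1 - e) • w + (1 - c) • k := fun w hw k hk => by
    rw [movMap_apply]
    show (w + k) - z (w + k) = _
    rw [map_add, hze w hw, hzK' k hk, sub_smul, sub_smul, one_smul, one_smul]
    abel
  have hinv2 : ∀ v : V, ((1 : F) - -1) • (2 : F)⁻¹ • v = v := fun v => by
    rw [sub_neg_eq_add, one_add_one_eq_two, smul_smul, mul_inv_cancel₀ h2, one_smul]
  have hparity : Even (finrank F (mov (g ^ s))) := by
    rw [par, ZMod.natCast_eq_zero_iff] at hpar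
    exact even_iff_two_dvd.2 hpar
  rcases he with rfl | rfl <;> rcases hcc with rfl | rfl
  · refine absurd (LinearMap.ext fun v => ?_) (oEnd_ne_one Nat.prime_two h1)
    obtain ⟨w, hw, k, hk, rfl⟩ := hdec v
    show z (w + k) = w + k
    rw [map_add, hze w hw, hzK' k hk, one_smul, one_smul]
  · exfalso
    have hmv : mov (g ^ s) = K := by
      refine le_antisymm ?_ fun k hk => ⟨(0 : V) + (2 : F)⁻¹ • k, ?_⟩
      · rintro _ ⟨v, rfl⟩
        obtain ⟨w, hw, k, hk, rfl⟩ := hdec v
        rw [hmap w hw k hk, sub_self, zero_smul, zero_add]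
        exact K.smul_mem _ hk
      · rw [hmap 0 W.zero_mem _ (K.smul_mem _ hk), smul_zero, zero_add, hinv2]
    rw [hmv, hK1] at hparity
    exact Nat.not_even_one hparity
  swap
  · exfalso
    have hmv : mov (g ^ s) = ⊤ := by
      rw [eq_top_iff]
      intro v _
      obtain ⟨w, hw, k, hk, rfl⟩ := hdec v
      exact ⟨(2 : F)⁻¹ • w + (2 : F)⁻¹ • k, by
        rw [hmap _ (W.smul_mem _ hw) _ (K.smul_mem _ hk), hinv2, hinv2]⟩
    rw [hmv, finrank_top, hV] at hparity
    exact Nat.not_even_two_mul_add_one n hparity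
  -- the spinor norm is the discriminant of the moved space
  let b := Module.finBasisOfFinrankEq F W hWn
  have hz : ∀ i, movMap (g ^ s) ((2 : F)⁻¹ • (b i : V) + 0) = (b i : V) := fun i => by
    rw [hmap _ (W.smul_mem _ (b i).2) 0 K.zero_mem, hinv2, smul_zero, add_zero]
  have hli : LinearIndependent F fun i => (b i : V) := b.linearIndependent.map' W.subtype (Submodule.ker_subtype _)
  have hspn : Submodule.span F (Set.range fun i => (b i : V)) = mov (g ^ s) := by
    refine le_antisymm (Submodule.span_le.2 ?_) ?_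
    · rintro _ ⟨i, rfl⟩
      exact ⟨_, hz i⟩
    · rintro _ ⟨v, rfl⟩
      obtain ⟨w, hw, k, hk, rfl⟩ := hdec v
      rw [hmap w hw k hk, sub_self, zero_smul, add_zero]
      have h3 := congrArg (Submodule.map W.subtype) b.span_eq
      rw [Submodule.map_span, Submodule.map_top, Submodule.range_subtype, ← Set.range_comp] at h3
      exact h3.ge (W.smul_mem _ hw)
  have hdet : (wallMat Q (fun i => (b i : V)) (fun i => (2 : F)⁻¹ • (b i : V) + 0)).det =
      (2 : F)⁻¹ ^ (2 * n) * (LinearMap.BilinForm.toMatrix b B').det := by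
    have h3 : wallMat Q (fun i => (b i : V)) (fun i => (2 : F)⁻¹ • (b i : V) + 0) =
        (2 : F)⁻¹ • LinearMap.BilinForm.toMatrix b B' := by
      ext i j
      rw [Matrix.smul_apply, LinearMap.BilinForm.toMatrix_apply]
      show polar Q ((2 : F)⁻¹ • (b i : V) + 0) (b j : V) = (2 : F)⁻¹ * polar Q (b i : V) (b j : V)
      rw [add_zero, polar_smul_left']
    rw [h3, Matrix.det_smul, Fintype.card_fin]
  have hX := det_wallMat_ne_zero hQ (g ^ s) hli hspn hz
  rw [spinor_eq hQ (g ^ s) hli hspn hz, sqc_eq_one_iff hX, hdet] at hsp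
  have hsq : IsSquare (LinearMap.BilinForm.toMatrix b B').det := by
    obtain ⟨t, ht⟩ := hsp
    refine ⟨t * (2 : F) ^ n, ?_⟩
    calc _ = ((2 : F)⁻¹ * 2) ^ (2 * n) * (LinearMap.BilinForm.toMatrix b B').det := by
          rw [inv_mul_cancel₀ h2, one_pow, one_mul]
      _ = (2 : F)⁻¹ ^ (2 * n) * (LinearMap.BilinForm.toMatrix b B').det * 2 ^ (2 * n) := by rw [mul_pow]; ring
      _ = t * 2 ^ n * (t * 2 ^ n) := by rw [ht]; ring
  exact disc_cases hodd B' (fun x y => QuadraticMap.polar_comm Q x y) hnd' (a.restrict haW) (fun x y => hiso x y)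
    hs hs2 haW' hfixW b hsq

end CfsgLib.HallGen.PrimeGraphBC
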