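import Cfsg.Agent.Lib.HallGen.OrthSpectrum.TraceForms
import Cfsg.Agent.Lib.Classical.Quad.Sym

/-!
# Irreducible isometries of bilinear forms over finite fields
-/

set_option autoImplicit false

namespace CfsgLib.HallGen.PrimeGraphBC

open Module Polynomial

/-- `M` divides `q ^ d + 1` or `q ^ d - 1`. -/
def Dv (q d M : ℕ) : Prop := M ∣ q ^ d + 1 ∨ M ∣ q ^ d - 1

/-- There is room for a torus with orders divisible by `M` in dimension `m`. -/
def Cond (q m M : ℕ) : Prop := ∃ d, 1 ≤ d ∧ 2 * d ≤ m ∧ Dv q d M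

theorem Cond.mono {q m m' M : ℕ} (h : Cond q m M) (hm : m ≤ m') : Cond q m' M :=
  let ⟨d, h1, h2, h3⟩ := h; ⟨d, h1, h2.trans hm, h3⟩

theorem Dv.of_dvd {q d M M' : ℕ} (h : Dv q d M) (hM : M' ∣ M) : Dv q d M' :=
  h.imp hM.trans hM.trans

theorem Cond.of_dvd {q m M M' : ℕ} (h : Cond q m M) (hM : M' ∣ M) : Cond q m M' :=
  let ⟨d, h1, h2, h3⟩ := h; ⟨d, h1, h2, h3.of_dvd hM⟩

variable {F : Type*} [Field F] [Fintype F]
variable {W : Type*} [AddCommGroup W] [Module F W] [FiniteDimensional F W]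

/-- An irreducible map is multiplication by a generator of a field extension. -/
theorem exists_field [Nontrivial W] (g : Module.End F W) {M : ℕ} (hM : orderOf g = M)
    (hirr : ∀ L : Submodule F W, (∀ v ∈ L, g v ∈ L) → L = ⊥ ∨ L = ⊤) :
    ∃ (f : F[X]) (_ : Fact (Irreducible f)) (e : AdjoinRoot f →ₗ[F] W), Function.Bijective e ∧
      (∀ x, g (e x) = e (AdjoinRoot.root f * x)) ∧ f.natDegree = finrank F W ∧
      orderOf (AdjoinRoot.root f) = M := by
  classical
  set f := minpoly F g with hf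
  have hint : IsIntegral F g := Algebra.IsIntegral.isIntegral g
  have hker : ∀ P : F[X], aeval g P ≠ 0 → ∀ w, aeval g P w = 0 → w = 0 := by
    intro P hP w hw
    have hc : Commute g (aeval g P) := by
      have := (Commute.all (X : F[X]) P).map (aeval g)
      rwa [aeval_X] at this
    rcases hirr (LinearMap.ker (aeval g P)) (fun v hv => by
      rw [LinearMap.mem_ker] at hv ⊢
      rw [← Module.End.mul_apply, ← hc.eq, Module.End.mul_apply, hv, map_zero]) with h | h
    · exact (Submodule.eq_bot_iff _).1 h w (LinearMap.mem_ker.2 hw)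
    · exact absurd (LinearMap.ker_eq_top.1 h) hP
  have hfi : Irreducible f := by
    refine (minpoly.monic hint).irreducible_iff_natDegree.2 ⟨fun h => ?_, fun P R hPm hRm hPR => ?_⟩
    · have := minpoly.natDegree_pos hint
      rw [h, natDegree_one] at this
      exact lt_irrefl 0 this
    by_cases hP0 : aeval g P = 0
    · right
      have h1 := natDegree_le_of_dvd (minpoly.dvd F g hP0) hPm.ne_zero
      have h2' := congrArg natDegree hPR
      rw [hPm.natDegree_mul hRm] at h2'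
      omega
    · left
      have hR0 : aeval g R = 0 := LinearMap.ext fun w => hker P hP0 _ (by
        rw [← Module.End.mul_apply, ← map_mul, hPR, minpoly.aeval]; rfl)
      have h1 := natDegree_le_of_dvd (minpoly.dvd F g hR0) hRm.ne_zero
      have h2' := congrArg natDegree hPR
      rw [hPm.natDegree_mul hRm] at h2'
      omega
  haveI : Fact (Irreducible f) := ⟨hfi⟩
  let pb := AdjoinRoot.powerBasis hfi.ne_zero
  haveI : FiniteDimensional F (AdjoinRoot f) := pb.finite
  let ψ : AdjoinRoot f →ₐ[F] Module.End F W := Ideal.Quotient.liftₐ (Ideal.span {f}) (aeval g) (fun z hz => by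
    obtain ⟨R, rfl⟩ := Ideal.mem_span_singleton.1 hz
    rw [map_mul, show aeval g f = 0 from minpoly.aeval F g, zero_mul])
  have hψa : ψ (AdjoinRoot.root f) = g := by
    rw [← AdjoinRoot.mk_X]
    exact aeval_X (R := F) g
  have hψinj : Function.Injective ψ := ψ.toRingHom.injective
  obtain ⟨w₀, hw₀⟩ := exists_ne (0 : W)
  let e : AdjoinRoot f →ₗ[F] W :=
    { toFun := fun x => ψ x w₀, map_add' := by intro x y; simp, map_smul' := by intro t x; simp }
  have he : Function.Injective e := by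
    rw [injective_iff_map_eq_zero]
    intro x hx
    obtain ⟨P, rfl⟩ := AdjoinRoot.mk_surjective x
    by_contra hne
    refine hw₀ (hker P (fun h => hne (hψinj ?_)) w₀ hx)
    rw [map_zero]
    exact h
  have hea : ∀ x, g (e x) = e (AdjoinRoot.root f * x) := fun x => by
    show g (ψ x w₀) = ψ (AdjoinRoot.root f * x) w₀
    rw [map_mul, hψa]
    rfl
  have hsur : LinearMap.range e = ⊤ := by
    refine (hirr _ ?_).resolve_left fun h => ?_
    · rintro _ ⟨x, rfl⟩
      exact ⟨_, (hea x).symm⟩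
    · have h1 : e 1 ∈ LinearMap.range e := ⟨1, rfl⟩
      rw [h, Submodule.mem_bot] at h1
      exact one_ne_zero (he (h1.trans (map_zero e).symm))
  refine ⟨f, ⟨hfi⟩, e, ⟨he, LinearMap.range_eq_top.1 hsur⟩, hea, ?_, ?_⟩
  · rw [← finrank_top F W, ← hsur, LinearMap.finrank_range_of_inj he, pb.finrank]
    simp [pb]
  · rw [← hM, ← hψa]
    exact (orderOf_injective ψ.toRingHom.toMonoidHom hψinj _).symm

omit [FiniteDimensional F W] in
theorem dvd_natDegree_iff {f : F[X]} (hfi : Irreducible f) (i : ℕ) :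
    haveI := Fact.mk hfi
    f.natDegree ∣ i ↔ AdjoinRoot.root f ^ Fintype.card F ^ i = AdjoinRoot.root f := by
  rw [hfi.natDegree_dvd_iff_dvd_X_pow_card_pow_sub_X, ← AdjoinRoot.mk_eq_zero, map_sub, map_pow, AdjoinRoot.mk_X,
    sub_eq_zero, Nat.card_eq_fintype_card]

/-- The order of an irreducible map divides `q ^ dim - 1`. -/
theorem irreducible_dvd [Nontrivial W] (g : Module.End F W) {M : ℕ} (hM : orderOf g = M) (hM0 : M ≠ 0)
    (hirr : ∀ L : Submodule F W, (∀ v ∈ L, g v ∈ L) → L = ⊥ ∨ L = ⊤) :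
    M ∣ Fintype.card F ^ finrank F W - 1 := by
  obtain ⟨f, hf, e, -, -, hdeg, hord⟩ := exists_field g hM hirr
  have h := (dvd_natDegree_iff hf.out (finrank F W)).1 hdeg.dvd
  rw [← hord]
  refine orderOf_dvd_of_pow_eq_one ?_
  have ha0 : AdjoinRoot.root f ≠ 0 := fun h0 => by
    rw [h0, orderOf_zero] at hord
    exact hM0 hord.symm
  refine mul_right_cancel₀ ha0 ?_
  rw [← pow_succ, Nat.sub_add_cancel (Nat.one_le_pow _ _ Fintype.card_pos), one_mul]
  exact h

/-- The adjoint of multiplication. -/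
theorem adjoint_hom {f : F[X]} [Fact (Irreducible f)] (g : Module.End F W) (β : W →ₗ[F] W →ₗ[F] F)
    (hiso : ∀ x y, β (g x) (g y) = β x y) (hnd : ∀ y, (∀ x, β x y = 0) → y = 0)
    (e : AdjoinRoot f →ₗ[F] W) (he : Function.Bijective e) (hea : ∀ x, g (e x) = e (AdjoinRoot.root f * x))
    {M : ℕ} (hord : orderOf (AdjoinRoot.root f) = M) (hM0 : M ≠ 0) :
    ∃ ι : AdjoinRoot f →ₐ[F] AdjoinRoot f, ι (AdjoinRoot.root f) = (AdjoinRoot.root f)⁻¹ ∧
      ∀ x y z, β (e (x * y)) (e z) = β (e y) (e (ι x * z)) := by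
  set a := AdjoinRoot.root f with ha
  have hai : a⁻¹ = a ^ (M - 1) := by
    refine inv_eq_of_mul_eq_one_right ?_
    rw [← pow_succ', Nat.sub_add_cancel (Nat.one_le_iff_ne_zero.2 hM0), ← hord, pow_orderOf_eq_one]
  have ha0 : a ≠ 0 := fun h0 => by
    rw [h0, orderOf_zero] at hord
    exact hM0 hord.symm
  have hadj : ∀ (P : F[X]) (y z : AdjoinRoot f),
      β (e (aeval a P * y)) (e z) = β (e y) (e (aeval a⁻¹ P * z)) := by
    intro P
    induction P using Polynomial.induction_on with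
    | C t =>
      intro y z
      rw [aeval_C, aeval_C, ← Algebra.smul_def, ← Algebra.smul_def, map_smul, map_smul, map_smul, map_smul,
        LinearMap.smul_apply]
    | add P R hP hR =>
      intro y z
      rw [map_add, map_add, add_mul, add_mul, map_add, map_add, map_add, LinearMap.add_apply, hP, hR, map_add]
    | monomial k t ih =>
      intro y z
      rw [show C t * X ^ (k + 1) = C t * X ^ k * X by rw [pow_succ, mul_assoc], map_mul (aeval a), map_mul (aeval a⁻¹), aeval_X, aeval_X,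
        mul_assoc, ih, ← hiso (e y), hea, hea]
      congr 2
      field_simp
  have hroot : aeval a⁻¹ f = 0 := by
    have h1 : ∀ y, β (e y) (e (aeval a⁻¹ f * 1)) = 0 := fun y => by
      rw [← hadj, AdjoinRoot.aeval_eq, AdjoinRoot.mk_self, zero_mul, map_zero, map_zero, LinearMap.zero_apply]
    have h2 : e (aeval a⁻¹ f * 1) = 0 := hnd _ fun x => by
      obtain ⟨y, rfl⟩ := he.2 x
      exact h1 y
    rw [mul_one] at h2
    exact he.1 (h2.trans (map_zero e).symm)
  refine ⟨AdjoinRoot.liftAlgHom f (Algebra.ofId F _) a⁻¹ (by rw [← hroot, aeval_def]; rfl), ?_, fun x y z => ?_⟩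
  · simp [a]
  · obtain ⟨P, rfl⟩ := AdjoinRoot.mk_surjective x
    have h1 : aeval a P = AdjoinRoot.mk f P := AdjoinRoot.aeval_eq P
    have h2 : AdjoinRoot.liftAlgHom f (Algebra.ofId F _) a⁻¹ (by rw [← hroot, aeval_def]; rfl) (AdjoinRoot.mk f P) =
        aeval a⁻¹ P := by
      rw [← AdjoinRoot.aeval_eq, ← aeval_algHom_apply]
      congr 1
      simp [a]
    rw [h2, ← h1]
    exact hadj P y z

/-- An irreducible isometry of a non-degenerate bilinear form. -/
theorem irreducible_form [Nontrivial W] (g : Module.End F W) {M : ℕ} (hM : orderOf g = M) (hM3 : 3 ≤ M)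
    (hirr : ∀ L : Submodule F W, (∀ v ∈ L, g v ∈ L) → L = ⊥ ∨ L = ⊤)
    (β : W →ₗ[F] W →ₗ[F] F) (hiso : ∀ x y, β (g x) (g y) = β x y) (hnd : ∀ y, (∀ x, β x y = 0) → y = 0) :
    ∃ d, 1 ≤ d ∧ finrank F W = 2 * d ∧ M ∣ Fintype.card F ^ d + 1 := by
  obtain ⟨f, hf, e, he, hea, hdeg, hord⟩ := exists_field g hM hirr
  obtain ⟨ι, hιa, -⟩ := adjoint_hom g β hiso hnd e he hea hord (by omega)
  let pb := AdjoinRoot.powerBasis hf.out.ne_zero
  haveI : FiniteDimensional F (AdjoinRoot f) := pb.finite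
  haveI : Finite (AdjoinRoot f) := Module.finite_of_finite F
  obtain ⟨p, hp⟩ := CharP.exists F
  haveI := hp
  haveI : Fact p.Prime := ⟨CharP.char_is_prime F p⟩
  obtain ⟨i, hi⟩ := FiniteField.exists_forall_apply_eq_pow F p (AdjoinRoot f)
    (AlgEquiv.ofBijective ι ⟨ι.toRingHom.injective, Finite.injective_iff_surjective.1 ι.toRingHom.injective⟩)
  set a := AdjoinRoot.root f with ha
  set q := Fintype.card F with hq
  have hia : a ^ q ^ i = a⁻¹ := by
    have h := hi a
    rw [Nat.card_eq_fintype_card, ← hq] at h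
    rw [← h]
    exact hιa
  have h2i : f.natDegree ∣ 2 * i := (dvd_natDegree_iff hf.out _).2 (by
    rw [← hq, two_mul, pow_add, pow_mul, ← ha, hia, inv_pow, hia, inv_inv])
  have hni : ¬ f.natDegree ∣ i := by
    intro h
    have h1 := (dvd_natDegree_iff hf.out _).1 h
    rw [← hq, ← ha, hia] at h1
    have h2 : a ^ 2 = 1 := by
      rw [pow_two]
      nth_rewrite 1 [← h1]
      exact inv_mul_cancel₀ (fun h0 => by rw [h0, orderOf_zero] at hord; omega)
    have := Nat.le_of_dvd two_pos (hord ▸ orderOf_dvd_of_pow_eq_one h2)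
    omega
  obtain ⟨d, hd⟩ : 2 ∣ f.natDegree := by
    by_contra hodd
    exact hni (((Nat.prime_two.coprime_iff_not_dvd.2 hodd).symm).dvd_of_dvd_mul_left h2i)
  have hpos := hf.out.natDegree_pos
  refine ⟨d, by omega, hdeg ▸ hd, ?_⟩
  obtain ⟨c, hic⟩ : d ∣ i := by
    rw [hd] at h2i
    exact (Nat.mul_dvd_mul_iff_left two_pos).1 h2i
  obtain ⟨c', hc'⟩ : ∃ c', c = 2 * c' + 1 := by
    rcases Nat.even_or_odd' c with ⟨k, hk | hk⟩
    · exact absurd ⟨k, by rw [hic, hk, hd]; ring⟩ hni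
    · exact ⟨k, hk⟩
  have hfix := (dvd_natDegree_iff hf.out (f.natDegree * c')).1 (dvd_mul_right _ _)
  have hid : a ^ q ^ d = a⁻¹ := by
    rw [← hia, hic, hc', show d * (2 * c' + 1) = f.natDegree * c' + d by rw [hd]; ring, pow_add, pow_mul]
    congr 1
    exact hfix.symm
  rw [← hord]
  refine orderOf_dvd_of_pow_eq_one ?_
  rw [pow_succ, hid, inv_mul_cancel₀ (fun h0 => by rw [h0, orderOf_zero] at hord; omega)]

/-- The discriminant of a symmetric form with an irreducible isometry. -/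
theorem irreducible_disc [Nontrivial W] (hodd : Odd (Fintype.card F)) (g : Module.End F W) {M : ℕ}
    (hM : orderOf g = M) (hM3 : 3 ≤ M)
    (hirr : ∀ L : Submodule F W, (∀ v ∈ L, g v ∈ L) → L = ⊥ ∨ L = ⊤)
    (β : LinearMap.BilinForm F W) (hiso : ∀ x y, β (g x) (g y) = β x y) (hsymm : ∀ x y, β x y = β y x)
    (hnd : ∀ y, (∀ x, β x y = 0) → y = 0) {d : ℕ} (hd1 : 1 ≤ d) (hdim : finrank F W = 2 * d)
    (hMd : M ∣ Fintype.card F ^ d + 1) (b : Basis (Fin (2 * d)) F W)
    (hsq : IsSquare (LinearMap.BilinForm.toMatrix b β).det) : 4 ∣ Fintype.card F ^ d + 1 := by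
  classical
  obtain ⟨f, hf, e, he, hea, hdeg, hord⟩ := exists_field g hM hirr
  obtain ⟨ι, hιa, hι⟩ := adjoint_hom g β hiso hnd e he hea hord (by omega)
  let pb := AdjoinRoot.powerBasis hf.out.ne_zero
  haveI : FiniteDimensional F (AdjoinRoot f) := pb.finite
  haveI : Finite (AdjoinRoot f) := Module.finite_of_finite F
  haveI : Fintype (AdjoinRoot f) := Fintype.ofFinite _
  set a := AdjoinRoot.root f with ha
  set q := Fintype.card F with hq
  have hKfin : finrank F (AdjoinRoot f) = 2 * d := by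
    rw [pb.finrank]; simp [pb, hdeg, hdim]
  have hιQ : ∀ x, ι x = x ^ q ^ d := by
    have h : ι = (FiniteField.frobeniusAlgHom F (AdjoinRoot f)) ^ d := by
      refine AdjoinRoot.algHom_ext ?_
      rw [hιa, AlgHom.coe_pow, FiniteField.coe_frobeniusAlgHom, pow_iterate, ← hq]
      refine (eq_inv_of_mul_eq_one_left ?_).symm
      rw [← ha, ← pow_succ]
      exact orderOf_dvd_iff_pow_eq_one.1 (hord ▸ hMd)
    intro x
    rw [h, AlgHom.coe_pow, FiniteField.coe_frobeniusAlgHom, pow_iterate]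
  obtain ⟨μ, hμ⟩ := OrthSpectrum.exists_trace_rep ((β (e 1)).comp e)
  have hpol : ∀ x y, β (e x) (e y) = Algebra.trace F (AdjoinRoot f) (μ * (x ^ q ^ d * y)) := fun x y => by
    rw [← mul_one x, hι, mul_one, hιQ]
    exact hμ _
  have htrQ : ∀ x : AdjoinRoot f, Algebra.trace F (AdjoinRoot f) (x ^ q ^ d) = Algebra.trace F _ x := fun x => by
    conv_rhs => rw [← Algebra.trace_eq_of_algEquiv (FiniteField.frobeniusAlgEquivOfAlgebraic F (AdjoinRoot f) ^ d) x]
    rw [AlgEquiv.coe_pow, FiniteField.coe_frobeniusAlgEquivOfAlgebraic_iterate]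
  have hperK : ∀ x : AdjoinRoot f, (x ^ q ^ d) ^ q ^ d = x := fun x => by
    rw [← pow_mul, ← pow_add, ← two_mul, show q ^ (2 * d) = Fintype.card (AdjoinRoot f) by
      rw [Module.card_eq_pow_finrank (K := F), hKfin], FiniteField.pow_card]
  have hμQ : μ ^ q ^ d = μ := by
    refine sub_eq_zero.1 ((traceForm_nondegenerate F (AdjoinRoot f)).1 _ fun x => ?_)
    rw [Algebra.traceForm_apply, sub_mul, map_sub, sub_eq_zero, ← htrQ (μ ^ q ^ d * x), mul_pow, hperK]
    have h1 := hpol 1 x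
    have h2' := hpol x 1
    rw [hsymm] at h2'
    simp only [one_pow, one_mul, mul_one] at h1 h2'
    rw [← h1, ← h2']
  let bK := Module.finBasisOfFinrankEq F (AdjoinRoot f) hKfin
  let e' : AdjoinRoot f ≃ₗ[F] W := LinearEquiv.ofBijective e he
  set X₀ := (Matrix.of fun i j => Algebra.trace F (AdjoinRoot f) (μ * (bK i ^ q ^ d * bK j))).det with hX
  have hGram : LinearMap.BilinForm.toMatrix (bK.map e') β =
      Matrix.of fun i j => Algebra.trace F (AdjoinRoot f) (μ * (bK i ^ q ^ d * bK j)) := by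
    ext i j
    rw [LinearMap.BilinForm.toMatrix_apply, Basis.map_apply, Basis.map_apply, Matrix.of_apply]
    exact hpol _ _
  have hrel := CfsgLib.Classical.Quad.det_gram_of_isometry (bK.map e') b β β (LinearEquiv.refl F W) (fun u v => rfl)
  rw [hGram, ← hX] at hrel
  have hsq' : IsSquare X₀ := hrel ▸ (IsSquare.sq _).mul hsq
  obtain ⟨D, hD0, hDq, hdet⟩ := OrthSpectrum.det_twisted_trace hd1 hKfin bK μ
  rw [← hX] at hdet
  obtain ⟨m, hm⟩ := hodd
  have hm' : q = 2 * m + 1 := hm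
  have hq1 : 1 < q := Fintype.one_lt_card
  obtain ⟨M2, hM2⟩ : ∃ M2, q ^ d + 1 = 2 * M2 := by
    obtain ⟨w, hw⟩ := (show Odd q from ⟨m, hm'⟩).pow (n := d)
    exact ⟨w + 1, by omega⟩
  have hXne : X₀ ≠ 0 := by
    intro h0
    have hμ0 : μ ≠ 0 := by
      intro h
      refine one_ne_zero (α := AdjoinRoot f) (he.1 ((hnd (e 1) fun x => ?_).trans (map_zero e).symm))
      obtain ⟨y, rfl⟩ := he.2 x
      rw [hpol, h, zero_mul, map_zero]
    rw [h0, map_zero, eq_comm, mul_eq_zero] at hdet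
    exact hdet.elim (pow_ne_zero _ hD0) (pow_ne_zero _ hμ0)
  have hX1 : algebraMap F (AdjoinRoot f) X₀ ^ m = 1 := by
    obtain ⟨y, hy⟩ := hsq'
    have hy0 : y ≠ 0 := fun h => hXne (by rw [hy, h, mul_zero])
    rw [hy, ← map_pow, ← pow_two, ← pow_mul, show 2 * m = q - 1 by omega, hq,
      FiniteField.pow_card_sub_one_eq_one y hy0, map_one]
  have hDm : D ^ (q - 1) = -1 := by
    refine mul_right_cancel₀ hD0 ?_
    rw [← pow_succ, Nat.sub_add_cancel hq1.le, neg_one_mul]
    exact hDq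
  have hexp : (q ^ (2 * d) - 1) / (q - 1) * m = (q ^ d - 1) * M2 := by
    have h1 : q - 1 ∣ q ^ (2 * d) - 1 := by simpa using Nat.sub_dvd_pow_sub_pow q 1 (2 * d)
    obtain ⟨w, hw⟩ := h1
    rw [hw, Nat.mul_div_cancel_left _ (by omega)]
    rw [show q ^ (2 * d) - 1 = (q ^ d + 1) * (q ^ d - 1) by rw [← Nat.sq_sub_sq, one_pow, ← pow_mul, mul_comm],
      hM2, show q - 1 = 2 * m by omega] at hw
    exact Nat.eq_of_mul_eq_mul_left two_pos (by linear_combination -hw)
  have hμpow : μ ^ ((q ^ d - 1) * M2) = 1 := by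
    rcases eq_or_ne μ 0 with h | h
    · exfalso
      rw [h, zero_pow (Nat.div_ne_zero_iff.2 ⟨by omega, Nat.sub_le_sub_right (Nat.le_self_pow (by omega) q) 1⟩),
        mul_zero] at hdet
      exact hXne ((map_eq_zero _).1 hdet)
    rw [pow_mul, show μ ^ (q ^ d - 1) = 1 from mul_right_cancel₀ h (by
      rw [← pow_succ, Nat.sub_add_cancel (Nat.one_le_pow _ _ (by omega)), hμQ, one_mul]), one_pow]
  rw [hdet, mul_pow, ← pow_mul, ← pow_mul, hexp, hμpow, mul_one, hM2,
    show 2 * M2 * m = (q - 1) * M2 by rw [show q - 1 = 2 * m by omega]; ring, pow_mul, hDm] at hX1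
  rw [hM2]
  rcases Nat.even_or_odd M2 with ⟨k, hk⟩ | ho
  · exact ⟨k, by rw [hk]; ring⟩
  · exfalso
    rw [ho.neg_one_pow] at hX1
    have h2K : (2 : AdjoinRoot f) = 0 := by linear_combination -hX1
    have h2F : (2 : F) = 0 := (algebraMap F (AdjoinRoot f)).injective (by rw [map_ofNat, map_zero]; exact h2K)
    exact Ring.two_ne_zero (fun h => by
      have := FiniteField.even_card_of_char_two h
      omega) h2F

end CfsgLib.HallGen.PrimeGraphBC
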