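import Cfsg.Agent.Lib.HallGen.PrimeGraphBC.OrthUpper
import Cfsg.Agent.Lib.Classical.Quad.POmega
import Cfsg.Agent.Lib.Classical.Quad.Sym
import Cfsg.Agent.Lib.Classical.Quad.Eichler

/-!
# Constructing elements of odd-dimensional `Ω`
-/

set_option autoImplicit false

namespace CfsgLib.HallGen.PrimeGraphBC

open Module
open QuadraticMap (polar polarBilin)
open CfsgLib.Classical.Quad CfsgLib.Known.OmegaCriterion

section Basic

variable {F : Type*} [Field F]
variable {V W : Type*} [AddCommGroup V] [Module F V] [AddCommGroup W] [Module F W]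

/-- Transport of isometries along a similarity. -/
def conjHom {Q : QuadraticForm F V} {R : QuadraticForm F W} (E : V ≃ₗ[F] W) (c : F)
    (h : ∀ v, R (E v) = c * Q v) : OQ Q →* OQ R where
  toFun g := ⟨E.symm.trans ((g : V ≃ₗ[F] V).trans E), fun w _ => by
    show R (E ((g : V ≃ₗ[F] V) (E.symm w))) = R w
    rw [h, OQ.map_apply, ← h, LinearEquiv.apply_symm_apply]⟩
  map_one' := Subtype.ext (LinearEquiv.ext fun w => E.apply_symm_apply w)
  map_mul' g g' := Subtype.ext (LinearEquiv.ext fun w => by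
    show E ((g : V ≃ₗ[F] V) ((g' : V ≃ₗ[F] V) (E.symm w))) =
      E ((g : V ≃ₗ[F] V) (E.symm (E ((g' : V ≃ₗ[F] V) (E.symm w)))))
    rw [E.symm_apply_apply])

theorem conjHom_injective {Q : QuadraticForm F V} {R : QuadraticForm F W} (E : V ≃ₗ[F] W) (c : F)
    (h : ∀ v, R (E v) = c * Q v) : Function.Injective (conjHom E c h) := fun g g' e =>
  Subtype.ext (LinearEquiv.ext fun v => E.injective (by
    have := LinearEquiv.congr_fun (congrArg Subtype.val e) (E v)
    simpa [conjHom] using this))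

theorem nondeg_comp {Q : QuadraticForm F V} (hQ : (polarBilin Q).Nondegenerate) (E : W ≃ₗ[F] V) :
    (polarBilin (Q.comp (E : W →ₗ[F] V))).Nondegenerate := by
  refine nondegenerate_of_left fun x hx => E.injective ((hQ.1 (E x) fun y => ?_).trans (map_zero E).symm)
  have := hx (E.symm y)
  simpa [polar] using this

/-- Isometries of an orthogonal sum. -/
def prodHom (Q : QuadraticForm F V) (R : QuadraticForm F W) : OQ Q × OQ R →* OQ (Q.prod R) where
  toFun g := ⟨LinearEquiv.prodCongr (g.1 : V ≃ₗ[F] V) (g.2 : W ≃ₗ[F] W), fun v _ => by simp [OQ.map_apply]⟩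
  map_one' := rfl
  map_mul' _ _ := rfl

theorem prodHom_injective (Q : QuadraticForm F V) (R : QuadraticForm F W) : Function.Injective (prodHom Q R) :=
  fun g g' e => Prod.ext
    (Subtype.ext (LinearEquiv.ext fun v => congrArg Prod.fst (LinearEquiv.congr_fun (congrArg Subtype.val e) (v, 0))))
    (Subtype.ext (LinearEquiv.ext fun w => congrArg Prod.snd (LinearEquiv.congr_fun (congrArg Subtype.val e) (0, w))))

theorem prodHom_fix (Q : QuadraticForm F V) (R : QuadraticForm F W) (g : OQ Q) (w : W) :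
    ((prodHom Q R (g, 1) : OQ (Q.prod R)) : (V × W) ≃ₗ[F] (V × W)) (0, w) = (0, w) :=
  Prod.ext (map_zero (g : V ≃ₗ[F] V)) rfl

theorem nondeg_prod {Q : QuadraticForm F V} {R : QuadraticForm F W} (hQ : (polarBilin Q).Nondegenerate)
    (hR : (polarBilin R).Nondegenerate) : (polarBilin (Q.prod R)).Nondegenerate := by
  refine nondegenerate_of_left fun x hx => Prod.ext (hQ.1 _ fun y => ?_) (hR.1 _ fun y => ?_)
  · simpa [polar] using hx (y, 0)
  · simpa [polar] using hx (0, y)

theorem commute_refl {Q : QuadraticForm F V} (g : OQ Q) {v : V} (hv : Q v ≠ 0)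
    (h : (g : V ≃ₗ[F] V) v = v) : Commute g (refl hv) := Subtype.ext (LinearEquiv.ext fun z => by
  show (g : V ≃ₗ[F] V) ((refl hv : V ≃ₗ[F] V) z) = (refl hv : V ≃ₗ[F] V) ((g : V ≃ₗ[F] V) z)
  have hp := OQ.map_polar g z v
  rw [h] at hp
  rw [refl_apply, refl_apply, map_sub, map_smul, h, hp])

variable [Finite F] [FiniteDimensional F V] {Q : QuadraticForm F V}

theorem sq_mem_commutator (hQ : (polarBilin Q).Nondegenerate) (hR : reflGroup Q = ⊤) (x : OQ Q) :
    x * x ∈ commutator (OQ Q) :=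
  (mem_commutator_iff hQ hR _).2
    ⟨by rw [par_mul hQ hR]; exact CharTwo.add_self_eq_zero _, by rw [spinor_mul hQ hR]; exact sqClass_mul_self _⟩

theorem odd_mem_commutator (hQ : (polarBilin Q).Nondegenerate) (hR : reflGroup Q = ⊤) {x : OQ Q}
    (hx : Odd (orderOf x)) : x ∈ commutator (OQ Q) := by
  obtain ⟨k, hk⟩ := hx
  have h : x ^ (k + 1) * x ^ (k + 1) = x := by
    rw [← pow_add, show k + 1 + (k + 1) = orderOf x + 1 by omega, pow_succ, pow_orderOf_eq_one, one_mul]
  exact h ▸ sq_mem_commutator hQ hR _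

/-- An involution of trivial invariants, commuting with all that fix two vectors. -/
theorem exists_involution (hQ : (polarBilin Q).Nondegenerate) (hR : reflGroup Q = ⊤) (h2 : (2 : F) ≠ 0) {v v' : V}
    (hv : Q v = 1) (hv' : Q v' = 1) (hp : polar Q v v' = 0) :
    ∃ j ∈ commutator (OQ Q), orderOf j = 2 ∧
      (∀ g : OQ Q, (g : V ≃ₗ[F] V) v = v → (g : V ≃ₗ[F] V) v' = v' → Commute g j) ∧
      ∀ z, polar Q z v = 0 → polar Q z v' = 0 → (j : V ≃ₗ[F] V) z = z := by
  have h1 : Q v ≠ 0 := hv ▸ one_ne_zero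
  have h1' : Q v' ≠ 0 := hv' ▸ one_ne_zero
  have hfix : (refl h1 : V ≃ₗ[F] V) v' = v' := by
    rw [refl_apply, QuadraticMap.polar_comm, hp, mul_zero, zero_smul, sub_zero]
  refine ⟨refl h1 * refl h1', (mem_commutator_iff hQ hR _).2 ⟨?_, ?_⟩, ?_,
    fun g hg hg' => (commute_refl g h1 hg).mul_right (commute_refl g h1' hg'), fun z hz hz' => ?_⟩
  rotate_left 3
  · show (refl h1 : V ≃ₗ[F] V) ((refl h1' : V ≃ₗ[F] V) z) = z
    rw [refl_apply, refl_apply, hz', mul_zero, zero_smul, sub_zero, hz, mul_zero, zero_smul, sub_zero]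
  · rw [par_refl_mul hQ, par_refl hQ]
    decide
  · rw [spinor_refl_mul hQ, spinor_refl hQ, hv, hv']
    exact sqc_mul_self 1
  · refine orderOf_eq_prime (p := 2) ?_ fun e => ?_
    · rw [pow_two, mul_assoc, ← mul_assoc (refl h1'), ← (commute_refl (refl h1) h1' hfix).eq, mul_assoc,
        refl_mul_self, mul_one, refl_mul_self]
    · have h3 := LinearEquiv.congr_fun (congrArg Subtype.val e) v
      change (refl h1 : V ≃ₗ[F] V) ((refl h1' : V ≃ₗ[F] V) v) = v at h3
      rw [refl_apply, refl_apply, hp, mul_zero, zero_smul, sub_zero, polar_self', hv, inv_one, one_mul, mul_one,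
        sub_eq_self, smul_eq_zero] at h3
      rcases h3 with h3 | h3
      · exact h2 h3
      · exact h1 (by rw [h3, QuadraticMap.map_zero])

/-- An Eichler element of order the characteristic. -/
theorem exists_order_char {p : ℕ} [Fact p.Prime] [CharP F p] (hQ : (polarBilin Q).Nondegenerate)
    (hn : 5 ≤ finrank F V) (h2 : (2 : F) ≠ 0) {w a : V} (hw : Q w = 0) (hw0 : w ≠ 0) (ha : Q a = 1)
    (hwa : polar Q w a = 0) :
    ∃ u ∈ commutator (OQ Q), orderOf u = p ∧
      ∀ g : OQ Q, (g : V ≃ₗ[F] V) w = w → (g : V ≃ₗ[F] V) a = a → Commute g u := by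
  refine ⟨eich hQ hw hwa, eich_mem_commutator hQ hn hw hwa, orderOf_eq_prime ?_ fun e => ?_, fun g h1 h2 => ?_⟩
  · have hwk : ∀ k : ℕ, polar Q w ((k : F) • a) = 0 := fun k => by rw [polar_smul_right', hwa, mul_zero]
    have hk : ∀ k : ℕ, eich hQ hw hwa ^ k = eich hQ hw (hwk k) := by
      intro k
      induction k with
      | zero =>
        rw [pow_zero, ← eich_zero_right hQ hw]
        exact eich_congr hQ rfl (by rw [Nat.cast_zero, zero_smul])
      | succ k ih =>
        rw [pow_succ, ih, eich_mul]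
        exact eich_congr hQ rfl (by rw [Nat.cast_succ, add_smul, one_smul])
    rw [hk, ← eich_zero_right hQ hw]
    exact eich_congr hQ rfl (by rw [CharP.cast_eq_zero, zero_smul])
  · have h3 := LinearEquiv.congr_fun (congrArg Subtype.val e) a
    rw [eich_apply] at h3
    change _ = a at h3
    rw [polar_self', ha, QuadraticMap.polar_comm (⇑Q) a w, hwa, neg_zero, zero_smul, add_zero, mul_zero, sub_zero,
      add_eq_left, smul_eq_zero, mul_one] at h3
    exact h3.elim h2 hw0
  · have := eich_conj hQ g hw hwa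
    rw [eich_congr hQ h1 h2, mul_inv_eq_iff_eq_mul] at this
    exact this

end Basic

variable {F : Type*} [Field F] [Fintype F]

local notation "qq" => Fintype.card F

theorem to_coordinates {V : Type*} [AddCommGroup V] [Module F V] [FiniteDimensional F V] {k M : ℕ}
    (hV : finrank F V = k) (Q : QuadraticForm F V) (hQ : (polarBilin Q).Nondegenerate) (g : OQ Q)
    (hg : orderOf g = M) :
    ∃ R : QuadraticForm F (Fin k → F), (polarBilin R).Nondegenerate ∧ ∃ g' : OQ R, orderOf g' = M := by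
  let E := (Module.finBasisOfFinrankEq F V hV).equivFun
  let R := Q.comp (E.symm : (Fin k → F) →ₗ[F] V)
  have h : ∀ v, R (E v) = 1 * Q v := fun v => by simp [R]
  exact ⟨R, nondeg_comp hQ E.symm, conjHom E 1 h g, (orderOf_injective _ (conjHom_injective E 1 h) g).trans hg⟩

theorem exists_unit_order {K : Type*} [Field K] [Fintype K] {M : ℕ} (h : M ∣ Fintype.card K - 1) :
    ∃ a : Kˣ, orderOf a = M := by
  obtain ⟨a, ha⟩ := IsCyclic.exists_ofOrder_eq_natCard (α := Kˣ)
  rw [Nat.card_units, Nat.card_eq_fintype_card] at ha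
  exact ⟨a ^ (orderOf a / M), orderOf_pow_orderOf_div (orderOf_pos a).ne' (ha ▸ h)⟩

/-- An isometry of order `M` of a `2d`-dimensional form. -/
theorem exists_block (hodd : Odd qq) {d M : ℕ} (hd : 1 ≤ d) (h : Dv qq d M) :
    ∃ R : QuadraticForm F (Fin (2 * d) → F), (polarBilin R).Nondegenerate ∧ ∃ g : OQ R, orderOf g = M := by
  classical
  obtain ⟨p, hc⟩ := CharP.exists F
  haveI := hc
  haveI : Fact p.Prime := ⟨CharP.char_is_prime F p⟩
  have h2 := two_ne hodd
  rcases h with h | h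
  · haveI : NeZero (2 * d) := ⟨by omega⟩
    let K := FiniteField.Extension F p (2 * d)
    haveI := Fintype.ofFinite K
    have hK : Fintype.card K = qq ^ (2 * d) := by
      rw [← Nat.card_eq_fintype_card, FiniteField.natCard_extension, Nat.card_eq_fintype_card]
    have hf : finrank F K = 2 * d := FiniteField.finrank_extension F p (2 * d)
    let σ : K ≃ₐ[F] K := FiniteField.frobeniusAlgEquivOfAlgebraic F K ^ d
    have hσ : ∀ x, σ x = x ^ qq ^ d := fun x => by
      show (FiniteField.frobeniusAlgEquivOfAlgebraic F K ^ d) x = _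
      rw [AlgEquiv.coe_pow, FiniteField.coe_frobeniusAlgEquivOfAlgebraic_iterate]
    have hσσ : ∀ x, σ (σ x) = x := fun x => by
      rw [hσ, hσ, ← pow_mul, ← pow_add, ← two_mul, ← hK, FiniteField.pow_card]
    let B : LinearMap.BilinForm F K := LinearMap.comp (Algebra.traceForm F K) σ.toLinearMap
    have hB : ∀ x y, B x y = Algebra.trace F K (σ x * y) := fun _ _ => rfl
    let Q : QuadraticForm F K := LinearMap.BilinMap.toQuadraticMap B
    have hQv : ∀ x, Q x = B x x := fun _ => rfl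
    have hpol : ∀ x y, polar Q x y = 2 * Algebra.trace F K (σ x * y) := fun x y => by
      show polar (LinearMap.BilinMap.toQuadraticMap B) x y = _
      rw [LinearMap.BilinMap.polar_toQuadraticMap, hB, hB]
      have h4 : Algebra.trace F K (σ y * x) = Algebra.trace F K (σ x * y) := by
        conv_rhs => rw [← Algebra.trace_eq_of_algEquiv σ (σ x * y), map_mul σ, hσσ, mul_comm x]
      linear_combination h4
    have hQ : (polarBilin Q).Nondegenerate := nondegenerate_of_left fun x hx => by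
      refine σ.injective (((traceForm_nondegenerate F K).1 _ fun y => ?_).trans (map_zero σ).symm)
      exact (mul_eq_zero.1 ((hpol x y).symm.trans (hx y))).resolve_left h2
    let N : Subgroup Kˣ := (powMonoidHom (qq ^ d + 1) : Kˣ →* Kˣ).ker
    have hN : ∀ a : N, σ ((a : Kˣ) : K) * ((a : Kˣ) : K) = 1 := fun a => by
      rw [hσ, ← pow_succ, ← Units.val_pow_eq_pow_val]
      exact congrArg Units.val (show (a : Kˣ) ^ (qq ^ d + 1) = 1 from a.2)
    let ρ : N →* OQ Q :=
      { toFun := fun a => ⟨LinearEquiv.ofLinear (LinearMap.mulLeft F ((a : Kˣ) : K))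
            (LinearMap.mulLeft F (((a : Kˣ)⁻¹ : Kˣ) : K)) (LinearMap.ext fun x => by simp)
            (LinearMap.ext fun x => by simp), fun x _ => by
          show Q (((a : Kˣ) : K) * x) = Q x
          rw [hQv, hQv, hB, hB, map_mul σ]
          congr 1
          linear_combination (σ x * x) * hN a⟩
        map_one' := Subtype.ext (LinearEquiv.ext fun x => one_mul x)
        map_mul' := fun a b => Subtype.ext (LinearEquiv.ext fun x => mul_assoc ((a : Kˣ) : K) ((b : Kˣ) : K) x) }
    have hρ : Function.Injective ρ := fun a b e => Subtype.ext (Units.ext (by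
      have := LinearEquiv.congr_fun (congrArg Subtype.val e) 1
      simpa [ρ] using this))
    obtain ⟨a, ha⟩ := exists_unit_order (K := K) (M := M) (h.trans (by
      rw [hK, mul_comm 2 d, pow_mul]
      exact ⟨qq ^ d - 1, by rw [← Nat.sq_sub_sq, one_pow]⟩))
    have haN : a ∈ N := orderOf_dvd_iff_pow_eq_one.1 (ha.symm ▸ h)
    exact to_coordinates hf Q hQ (ρ ⟨a, haN⟩) (by rw [orderOf_injective ρ hρ, Subgroup.orderOf_mk, ha])
  · haveI : NeZero d := ⟨by omega⟩
    let L := FiniteField.Extension F p d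
    haveI := Fintype.ofFinite L
    have hL : Fintype.card L = qq ^ d := by
      rw [← Nat.card_eq_fintype_card, FiniteField.natCard_extension, Nat.card_eq_fintype_card]
    have hf : finrank F (L × L) = 2 * d := by
      rw [Module.finrank_prod, FiniteField.finrank_extension F p d, two_mul]
    let B : LinearMap.BilinForm F (L × L) :=
      (Algebra.traceForm F L).compl₁₂ (LinearMap.fst F L L) (LinearMap.snd F L L)
    have hB : ∀ x y, B x y = Algebra.trace F L (x.1 * y.2) := fun _ _ => rfl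
    let Q : QuadraticForm F (L × L) := LinearMap.BilinMap.toQuadraticMap B
    have hQv : ∀ x, Q x = B x x := fun _ => rfl
    have hpol : ∀ x y, polar Q x y = Algebra.trace F L (x.1 * y.2) + Algebra.trace F L (y.1 * x.2) := fun x y => by
      show polar (LinearMap.BilinMap.toQuadraticMap B) x y = _
      rw [LinearMap.BilinMap.polar_toQuadraticMap, hB, hB]
    have hQ : (polarBilin Q).Nondegenerate := nondegenerate_of_left fun x hx => by
      refine Prod.ext ((traceForm_nondegenerate F L).1 _ fun y => ?_) ((traceForm_nondegenerate F L).2 _ fun y => ?_)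
      · have := hx (0, y)
        rw [hpol] at this
        simpa [Algebra.traceForm_apply] using this
      · have := hx (y, 0)
        rw [hpol] at this
        simpa [Algebra.traceForm_apply] using this
    let ρ : Lˣ →* OQ Q :=
      { toFun := fun a => ⟨LinearEquiv.prodCongr
            (LinearEquiv.ofLinear (LinearMap.mulLeft F (a : L)) (LinearMap.mulLeft F ((a⁻¹ : Lˣ) : L))
              (LinearMap.ext fun x => by simp) (LinearMap.ext fun x => by simp))
            (LinearEquiv.ofLinear (LinearMap.mulLeft F ((a⁻¹ : Lˣ) : L)) (LinearMap.mulLeft F (a : L))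
              (LinearMap.ext fun x => by simp) (LinearMap.ext fun x => by simp)), fun x _ => by
          show Q ((a : L) * x.1, ((a⁻¹ : Lˣ) : L) * x.2) = Q x
          rw [hQv, hQv, hB, hB]
          congr 1
          rw [mul_mul_mul_comm, Units.mul_inv, one_mul]⟩
        map_one' := Subtype.ext (LinearEquiv.ext fun x => Prod.ext (one_mul _) (by simp))
        map_mul' := fun a b => Subtype.ext (LinearEquiv.ext fun x => Prod.ext (mul_assoc (a : L) (b : L) x.1) (by
          show (((a * b)⁻¹ : Lˣ) : L) * x.2 = ((a⁻¹ : Lˣ) : L) * (((b⁻¹ : Lˣ) : L) * x.2)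
          rw [mul_inv, Units.val_mul, mul_assoc])) }
    have hρ : Function.Injective ρ := fun a b e => Units.ext (by
      have := congrArg Prod.fst (LinearEquiv.congr_fun (congrArg Subtype.val e) (1, 0))
      simpa [ρ] using this)
    obtain ⟨a, ha⟩ := exists_unit_order (K := L) (M := M) (hL.symm ▸ h)
    exact to_coordinates hf Q hQ (ρ a) (by rw [orderOf_injective ρ hρ, ha])

/-- An element of trivial invariants gives its order in `PΩ`. -/
theorem mem_range_of_commutator (hodd : Odd qq) {n : ℕ} (hn : 3 ≤ n) {V : Type*} [AddCommGroup V] [Module F V]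
    [FiniteDimensional F V] (hV : finrank F V = 2 * n + 1) (Q : QuadraticForm F V)
    (hQ : (polarBilin Q).Nondegenerate) {g : OQ Q} (hg : g ∈ commutator (OQ Q)) {M : ℕ} (hM : orderOf g = M) :
    M ∈ Set.range (orderOf : Cfsg.POmega F (Cfsg.quadFormOdd n F) → ℕ) := by
  classical
  have h2 := two_ne hodd
  have hq : (polarBilin (qOdd n F)).Nondegenerate := qOdd_nondeg h2 n
  have hdim : finrank F (Unit ⊕ (Fin n ⊕ Fin n) → F) = 2 * n + 1 := by
    rw [Module.finrank_pi]
    simp
    ring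
  let E := LinearEquiv.ofFinrankEq V (Unit ⊕ (Fin n ⊕ Fin n) → F) (hV.trans hdim.symm)
  obtain ⟨g₀, c, -, hgc⟩ := similar_of_odd h2 (hdim ▸ ⟨n, rfl⟩)
    (Q.comp (E.symm : (Unit ⊕ (Fin n ⊕ Fin n) → F) →ₗ[F] V)) (qOdd n F) (nondeg_comp hQ E.symm) hq
  have hsim : ∀ v, qOdd n F ((E.trans g₀) v) = c * Q v := fun v => by
    rw [LinearEquiv.trans_apply, hgc]
    simp
  set x := conjHom (E.trans g₀) c hsim g with hx
  have hxc : x ∈ commutator (OQ (qOdd n F)) := by
    have h := Subgroup.mem_map_of_mem (conjHom (E.trans g₀) c hsim) hg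
    rw [commutator_def, Subgroup.map_commutator] at h
    exact Subgroup.commutator_mono le_top le_top h
  have hxo : orderOf (⟨x, hxc⟩ : commutator (OQ (qOdd n F))) = M := by
    rw [Subgroup.orderOf_mk, hx, orderOf_injective _ (conjHom_injective _ _ _), hM]
  have hcen : ∀ z : commutator (OQ (qOdd n F)), z ∈ Subgroup.center _ → z = 1 := fun z hz => by
    obtain ⟨e, he, hze⟩ := (center_Omega_iff hq (by rw [hdim]; omega)).1 hz
    rcases mul_self_eq_one_iff.1 he with rfl | rfl
    · exact Subtype.ext (Subtype.ext (LinearEquiv.ext fun v => (hze v).trans (one_smul _ _)))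
    · exfalso
      have htop : mov (z : OQ (qOdd n F)) = ⊤ := eq_top_iff.2 fun v _ => ⟨(2 : F)⁻¹ • v, by
        rw [movMap_apply, hze, neg_one_smul, sub_neg_eq_add, ← two_smul F, smul_smul, mul_inv_cancel₀ h2, one_smul]⟩
      have hp := ((mem_commutator_iff hq (reflGroup_eq_top hq (Or.inr (by rw [hdim]; omega))) _).1 z.2).1
      rw [par, htop, finrank_top, hdim, ZMod.natCast_eq_zero_iff] at hp
      omega
  set y := (omegaEquiv (qOdd n F)).symm ⟨x, hxc⟩ with hy
  rw [← coe_qOdd]
  refine ⟨QuotientGroup.mk y, Nat.dvd_antisymm ?_ ?_⟩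
  · rw [← hxo, ← (omegaEquiv (qOdd n F)).symm.orderOf_eq]
    exact orderOf_map_dvd (QuotientGroup.mk' _) y
  · rw [← hxo, ← (omegaEquiv (qOdd n F)).symm.orderOf_eq, ← hy]
    refine orderOf_dvd_of_pow_eq_one ((omegaEquiv (qOdd n F)).injective ?_)
    rw [map_one]
    refine hcen _ ?_
    rw [← map_center_eq (omegaEquiv (qOdd n F))]
    exact Subgroup.mem_map_of_mem _ ((QuotientGroup.eq_one_iff _).1
      (by rw [QuotientGroup.mk_pow, pow_orderOf_eq_one]))

theorem qOdd_vectors {k : ℕ} (i : Fin k) :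
    qOdd k F (Pi.single (Sum.inl ()) 1) = 1 ∧ qOdd k F (Pi.single (Sum.inr (Sum.inl i)) 1) = 0 ∧
      qOdd k F (Pi.single (Sum.inr (Sum.inl i)) 1 + Pi.single (Sum.inr (Sum.inr i)) 1) = 1 := by
  rw [coe_qOdd]
  simp [Cfsg.quadFormOdd, Pi.single_apply, Finset.sum_ite_eq']

theorem qOdd_polar {k : ℕ} (i : Fin k) :
    polar (qOdd k F) (Pi.single (Sum.inr (Sum.inl i)) 1) (Pi.single (Sum.inl ()) 1) = 0 ∧
      polar (qOdd k F) (Pi.single (Sum.inl ()) 1)
        (Pi.single (Sum.inr (Sum.inl i)) 1 + Pi.single (Sum.inr (Sum.inr i)) 1) = 0 := by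
  rw [coe_qOdd]
  simp [polar, Cfsg.quadFormOdd, Pi.single_apply, Finset.sum_ite_eq', add_mul, mul_add, Finset.sum_add_distrib]

theorem finrank_block {d k : ℕ} : finrank F ((Fin (2 * d) → F) × (Unit ⊕ (Fin k ⊕ Fin k) → F)) = 2 * (d + k) + 1 := by
  rw [Module.finrank_prod, Module.finrank_pi, Module.finrank_pi]
  simp
  ring

variable {n : ℕ}

theorem orth_odd_exists (hodd : Odd qq) (hn : 3 ≤ n) {r s : ℕ} (hr : r.Prime) (hs : s.Prime) (hrs : r ≠ s)
    (hr2 : r ≠ 2) (hs2 : s ≠ 2) (h : OddCrit qq n r s) :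
    r * s ∈ Set.range (orderOf : Cfsg.POmega F (Cfsg.quadFormOdd n F) → ℕ) := by
  have hrso := (hr.odd_of_ne_two hr2).mul (hs.odd_of_ne_two hs2)
  have h2 := two_ne hodd
  rcases h with ⟨d, h1, hd, h3⟩ | ⟨d₁, d₂, h1, h1', hd, h4, h5⟩
  · obtain ⟨k, rfl⟩ : ∃ k, n = d + k := ⟨n - d, by omega⟩
    obtain ⟨R, hR, g, hg⟩ := exists_block hodd h1 h3
    have hQ := nondeg_prod hR (qOdd_nondeg h2 k)
    have hgo : orderOf (prodHom R (qOdd k F) (g, 1)) = r * s := by
      rw [orderOf_injective _ (prodHom_injective _ _), Prod.orderOf_mk, orderOf_one, Nat.lcm_one_right, hg]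
    exact mem_range_of_commutator hodd hn finrank_block _ hQ
      (odd_mem_commutator hQ (reflGroup_eq_top hQ (Or.inr (by rw [finrank_block]; omega))) (hgo ▸ hrso)) hgo
  · obtain ⟨k, rfl⟩ : ∃ k, n = d₁ + d₂ + k := ⟨n - (d₁ + d₂), by omega⟩
    obtain ⟨R₁, hR₁, g₁, hg₁⟩ := exists_block hodd h1 h4
    obtain ⟨R₂, hR₂, g₂, hg₂⟩ := exists_block hodd h1' h5
    have hQ := nondeg_prod (nondeg_prod hR₁ hR₂) (qOdd_nondeg h2 k)
    have hV : finrank F (((Fin (2 * d₁) → F) × (Fin (2 * d₂) → F)) × (Unit ⊕ (Fin k ⊕ Fin k) → F)) =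
        2 * (d₁ + d₂ + k) + 1 := by
      rw [Module.finrank_prod, Module.finrank_prod, Module.finrank_pi, Module.finrank_pi, Module.finrank_pi]
      simp
      ring
    have hgo : orderOf (prodHom _ (qOdd k F) (prodHom R₁ R₂ (g₁, g₂), 1)) = r * s := by
      rw [orderOf_injective _ (prodHom_injective _ _), Prod.orderOf_mk, orderOf_one, Nat.lcm_one_right,
        orderOf_injective _ (prodHom_injective _ _), Prod.orderOf_mk, hg₁, hg₂,
        ((Nat.coprime_primes hr hs).2 hrs).lcm_eq_mul]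
    exact mem_range_of_commutator hodd hn hV _ hQ
      (odd_mem_commutator hQ (reflGroup_eq_top hQ (Or.inr (by rw [hV]; omega))) (hgo ▸ hrso)) hgo

theorem orth_two_exists (hodd : Odd qq) (hn : 3 ≤ n) {s : ℕ} (hs : s.Prime) (hs2 : s ≠ 2) (h : TwoCrit qq n s) :
    2 * s ∈ Set.range (orderOf : Cfsg.POmega F (Cfsg.quadFormOdd n F) → ℕ) := by
  have h2 := two_ne hodd
  rcases h with ⟨d, h1, hd, h3⟩ | h
  · obtain ⟨k, rfl⟩ : ∃ k, n = d + k := ⟨n - d, by omega⟩
    obtain ⟨R, hR, g, hg⟩ := exists_block hodd h1 h3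
    have hQ := nondeg_prod hR (qOdd_nondeg h2 k)
    have hG := reflGroup_eq_top hQ (Or.inr (by rw [finrank_block (F := F) (d := d) (k := k)]; omega))
    have i : Fin k := ⟨0, by omega⟩
    obtain ⟨e1, -, e2⟩ := qOdd_vectors (F := F) i
    obtain ⟨-, e3⟩ := qOdd_polar (F := F) i
    obtain ⟨j, hj, hjo, hjc, -⟩ := exists_involution hQ hG h2
      (v := ((0 : Fin (2 * d) → F), Pi.single (Sum.inl ()) (1 : F)))
      (v' := ((0 : Fin (2 * d) → F), Pi.single (Sum.inr (Sum.inl i)) (1 : F) + Pi.single (Sum.inr (Sum.inr i)) 1))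
      (by simp [e1]) (by simp [e2]) (by simpa [polar] using e3)
    have hgo : orderOf (prodHom R (qOdd k F) (g, 1)) = s := by
      rw [orderOf_injective _ (prodHom_injective _ _), Prod.orderOf_mk, orderOf_one, Nat.lcm_one_right, hg]
    refine mem_range_of_commutator hodd hn finrank_block _ hQ
      (mul_mem hj (odd_mem_commutator hQ hG (hgo ▸ hs.odd_of_ne_two hs2))) ?_
    rw [(hjc _ (prodHom_fix _ _ g _) (prodHom_fix _ _ g _)).symm.orderOf_mul_eq_mul_orderOf_of_coprime
      (by rw [hjo, hgo]; exact (Nat.coprime_primes Nat.prime_two hs).2 hs2.symm), hjo, hgo]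
  · obtain ⟨R, hR, g, hg⟩ := exists_block hodd (by omega) h
    have hQ := nondeg_prod hR (qOdd_nondeg h2 0)
    have hG := reflGroup_eq_top hQ (Or.inr (by rw [finrank_block (F := F) (d := n) (k := 0)]; omega))
    have hgo : orderOf (prodHom R (qOdd 0 F) (g, 1)) = 4 * s := by
      rw [orderOf_injective _ (prodHom_injective _ _), Prod.orderOf_mk, orderOf_one, Nat.lcm_one_right, hg]
    refine mem_range_of_commutator hodd hn finrank_block _ hQ (sq_mem_commutator hQ hG (prodHom R (qOdd 0 F) (g, 1))) ?_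
    rw [← pow_two, orderOf_pow_of_dvd two_ne_zero (hgo ▸ Dvd.intro (2 * s) (by ring)), hgo,
      show 4 * s = 2 * (2 * s) by ring, Nat.mul_div_cancel_left _ two_pos]

theorem orth_char_exists {p : ℕ} [Fact p.Prime] [CharP F p] (hodd : Odd qq) (hn : 3 ≤ n) {s : ℕ} (hs : s.Prime)
    (hs2 : s ≠ 2) (hsp : p ≠ s) (h : Cond qq (2 * n - 2) s) :
    p * s ∈ Set.range (orderOf : Cfsg.POmega F (Cfsg.quadFormOdd n F) → ℕ) := by
  have h2 := two_ne hodd
  obtain ⟨d, h1, hd, h3⟩ := h
  obtain ⟨k, rfl⟩ : ∃ k, n = d + k := ⟨n - d, by omega⟩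
  obtain ⟨R, hR, g, hg⟩ := exists_block hodd h1 h3
  have hQ := nondeg_prod hR (qOdd_nondeg h2 k)
  have hdim : finrank F ((Fin (2 * d) → F) × (Unit ⊕ (Fin k ⊕ Fin k) → F)) = 2 * (d + k) + 1 := finrank_block
  have i : Fin k := ⟨0, by omega⟩
  obtain ⟨e1, e0, -⟩ := qOdd_vectors (F := F) i
  obtain ⟨e4, -⟩ := qOdd_polar (F := F) i
  obtain ⟨u, hu, huo, huc⟩ := exists_order_char (p := p) hQ (by omega) h2
    (w := ((0 : Fin (2 * d) → F), Pi.single (Sum.inr (Sum.inl i)) (1 : F)))
    (a := ((0 : Fin (2 * d) → F), Pi.single (Sum.inl ()) (1 : F)))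
    (by simp [e0]) (fun e => by simpa using congrFun (congrArg Prod.snd e) (Sum.inr (Sum.inl i)))
    (by simp [e1]) (by simpa [polar] using e4)
  have hgo : orderOf (prodHom R (qOdd k F) (g, 1)) = s := by
    rw [orderOf_injective _ (prodHom_injective _ _), Prod.orderOf_mk, orderOf_one, Nat.lcm_one_right, hg]
  refine mem_range_of_commutator hodd hn hdim _ hQ
    (mul_mem hu (odd_mem_commutator hQ (reflGroup_eq_top hQ (Or.inr (by omega))) (hgo ▸ hs.odd_of_ne_two hs2))) ?_
  rw [(huc _ (prodHom_fix _ _ g _) (prodHom_fix _ _ g _)).symm.orderOf_mul_eq_mul_orderOf_of_coprime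
    (by rw [huo, hgo]; exact (Nat.coprime_primes Fact.out hs).2 hsp), huo, hgo]

theorem orth_two_char_exists {p : ℕ} [Fact p.Prime] [CharP F p] (hodd : Odd qq) (hn : 3 ≤ n) (hp2 : p ≠ 2) :
    2 * p ∈ Set.range (orderOf : Cfsg.POmega F (Cfsg.quadFormOdd n F) → ℕ) := by
  have h2 := two_ne hodd
  have hQ := qOdd_nondeg h2 n (F := F)
  have hdim : finrank F (Unit ⊕ (Fin n ⊕ Fin n) → F) = 2 * n + 1 := by
    rw [Module.finrank_pi]
    simp
    ring
  have hR := reflGroup_eq_top hQ (Or.inr (by omega))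
  let i₀ : Fin n := ⟨0, by omega⟩
  let i₁ : Fin n := ⟨1, by omega⟩
  let i₂ : Fin n := ⟨2, by omega⟩
  obtain ⟨e1, -, e2⟩ := qOdd_vectors (F := F) i₀
  obtain ⟨-, e3⟩ := qOdd_polar (F := F) i₀
  obtain ⟨j, hj, hjo, -, hjf⟩ := exists_involution hQ hR h2 e1 e2 e3
  have hne : i₁ ≠ i₂ := by simp [i₁, i₂]
  have hne' : i₁ ≠ i₀ ∧ i₂ ≠ i₀ := ⟨by simp [i₁, i₀], by simp [i₂, i₀]⟩
  set w : Unit ⊕ (Fin n ⊕ Fin n) → F := Pi.single (Sum.inr (Sum.inl i₁)) 1 with hw
  set a : Unit ⊕ (Fin n ⊕ Fin n) → F := Pi.single (Sum.inr (Sum.inl i₂)) 1 + Pi.single (Sum.inr (Sum.inr i₂)) 1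
    with ha
  obtain ⟨u, hu, huo, huc⟩ := exists_order_char (p := p) (w := w) (a := a) hQ (by omega) h2
    (qOdd_vectors (F := F) i₁).2.1
    (fun e => by simpa [hw] using congrFun e (Sum.inr (Sum.inl i₁))) (qOdd_vectors (F := F) i₂).2.2
    (by rw [coe_qOdd]; simp [hw, ha, polar, Cfsg.quadFormOdd, Pi.single_apply, Finset.sum_ite_eq', add_mul, mul_add,
      Finset.sum_add_distrib, hne, hne.symm])
  have hjfix : ∀ z : Unit ⊕ (Fin n ⊕ Fin n) → F, z = w ∨ z = a →
      (j : (Unit ⊕ (Fin n ⊕ Fin n) → F) ≃ₗ[F] _) z = z := fun z hz => by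
    rcases hz with rfl | rfl <;> refine hjf _ ?_ ?_ <;> rw [coe_qOdd] <;>
      simp [hw, ha, polar, Cfsg.quadFormOdd, Pi.single_apply, Finset.sum_ite_eq', add_mul, mul_add,
        Finset.sum_add_distrib, hne', hne'.1.symm, hne'.2.symm]
  refine mem_range_of_commutator hodd hn hdim _ hQ (mul_mem hj hu) ?_
  rw [(huc j (hjfix w (Or.inl rfl)) (hjfix a (Or.inr rfl))).orderOf_mul_eq_mul_orderOf_of_coprime
    (by rw [hjo, huo]; exact (Nat.coprime_primes Nat.prime_two Fact.out).2 hp2.symm), hjo, huo]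

end CfsgLib.HallGen.PrimeGraphBC
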