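import Cfsg.Agent.Lib.HallGen.PrimeGraphBC.Isometries
import Cfsg.Agent.Lib.HallGen.SympSpectrum.Main
import Cfsg.Agent.Lib.Classical.Quad.NegOne

/-!
# The prime graph of `PSp 2n`
-/

set_option autoImplicit false

namespace CfsgLib.HallGen.PrimeGraphBC

open Module CfsgLib.Classical CfsgLib.HallGen.SympSpectrum

/-- Both primes odd and prime to the characteristic. -/
def OddCrit (q n r s : ℕ) : Prop :=
  Cond q (2 * n) (r * s) ∨ ∃ d₁ d₂, 1 ≤ d₁ ∧ 1 ≤ d₂ ∧ d₁ + d₂ ≤ n ∧ Dv q d₁ r ∧ Dv q d₂ s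

/-- One prime is two. -/
def TwoCrit (q n s : ℕ) : Prop := Cond q (2 * n - 2) s ∨ Dv q n (4 * s)

theorem Cond.shrink {q m n M : ℕ} (h : Cond q m M) (hm : m < 2 * n) : Cond q (2 * n - 2) M :=
  let ⟨d, h1, h2, h3⟩ := h; ⟨d, h1, by omega, h3⟩

theorem mem_range_orderOf {G : Type*} [Group G] [Finite G] {x : G} {M : ℕ} (h : M ∣ orderOf x) :
    M ∈ Set.range (orderOf : G → ℕ) :=
  ⟨x ^ (orderOf x / M), orderOf_pow_orderOf_div (orderOf_pos x).ne' h⟩

theorem pow_orders {G : Type*} [Group G] {x : G} {r s : ℕ} (hr : r.Prime) (hs : s.Prime)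
    (hx : orderOf x = r * s) : orderOf (x ^ s) = r ∧ orderOf (x ^ r) = s := by
  constructor
  · rw [orderOf_pow_of_dvd hs.ne_zero (hx ▸ dvd_mul_left _ _), hx, Nat.mul_div_cancel _ hs.pos]
  · rw [orderOf_pow_of_dvd hr.ne_zero (hx ▸ dvd_mul_right _ _), hx, Nat.mul_div_cancel_left _ hr.pos]

variable {F : Type*} [Field F] {n : ℕ}

theorem endHom_preserves (g : ↥(Matrix.symplecticGroup (Fin n) F)) (u v : Fin n ⊕ Fin n → F) :
    Symp.sympBil n F (endHom n F g u) (endHom n F g v) = Symp.sympBil n F u v :=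
  (Symp.symplecticEquiv n F g).2 u v

theorem endHom_center (hn : 1 ≤ n) {z : ↥(Matrix.symplecticGroup (Fin n) F)} :
    z ∈ Subgroup.center _ ↔ endHom n F z = 1 ∨ endHom n F z = -1 := by
  constructor
  · intro hz
    haveI := Symp.nontrivial_sympSpace (F := F) hn
    have hz' : Symp.symplecticEquiv n F z ∈ Subgroup.center _ := by
      rw [Subgroup.mem_center_iff] at hz ⊢
      intro y
      obtain ⟨x, rfl⟩ := (Symp.symplecticEquiv n F).surjective y
      rw [← map_mul, ← map_mul, hz]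
    obtain ⟨c, hc⟩ := (Symp.mem_center_iff_smul (Symp.sympBil_isAlt n F) (Symp.sympBil_nondegenerate n F)).1 hz'
    have h1 := Symp.sq_eq_one_of_smul (Symp.sympBil_isAlt n F) (Symp.sympBil_nondegenerate n F) hc
    rcases sq_eq_one_iff.1 h1 with rfl | rfl
    · exact Or.inl (LinearMap.ext fun v => (hc v).trans (one_smul _ _))
    · exact Or.inr (LinearMap.ext fun v => (hc v).trans (neg_one_smul _ _))
  · intro h
    refine Subgroup.mem_center_iff.2 fun y => endHom_injective ?_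
    rcases h with h | h <;> rw [map_mul, map_mul, h]
    exacts [by rw [mul_one, one_mul], (Commute.one_right (endHom n F y)).neg_right.eq]

variable [Fintype F]

local notation "qq" => Fintype.card F

theorem two_ne (hodd : Odd qq) : (2 : F) ≠ 0 := Classical.Quad.two_ne_zero_of_odd rfl hodd

theorem sympBil_refl (u v : Fin n ⊕ Fin n → F) (h : Symp.sympBil n F u v = 0) : Symp.sympBil n F v u = 0 := by
  rw [← LinearMap.BilinForm.IsAlt.neg_eq (Symp.sympBil_isAlt n F) u v, h, neg_zero]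

theorem psp_odd_cases (hn : 1 ≤ n) {r s : ℕ} (hr : r.Prime) (hs : s.Prime) (hrs : r ≠ s) (hr2 : r ≠ 2)
    (hs2 : s ≠ 2) (hrF : (r : F) ≠ 0) (hsF : (s : F) ≠ 0)
    (h : r * s ∈ Set.range (orderOf : Cfsg.PSp n F → ℕ)) : OddCrit qq n r s := by
  obtain ⟨g, hg⟩ := h
  obtain ⟨y, -, hy⟩ := exists_lift_odd g (hg ▸ (hr.odd_of_ne_two hr2).mul (hs.odd_of_ne_two hs2))
  rw [hg] at hy
  obtain ⟨h1, h2⟩ := pow_orders hr hs hy
  have hne : ∀ k : ℕ, k.Prime → ∀ x : ↥(Matrix.symplecticGroup (Fin n) F), orderOf x = k → endHom n F x ≠ 1 :=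
    fun k hk x hx e => hk.ne_one (by rw [← hx, endHom_injective (e.trans (map_one _).symm), orderOf_one])
  have := pair_cases (Symp.sympBil n F) (Symp.sympBil_nondegenerate n F).1 sympBil_refl
    (endHom n F (y ^ s)) (endHom n F (y ^ r)) (endHom_preserves _) (endHom_preserves _)
    ((Commute.pow_pow_self y s r).map _) hr hs hrs hr2 hs2 hrF hsF
    (by rw [← map_pow, ← h1, pow_orderOf_eq_one, map_one]) (by rw [← map_pow, ← h2, pow_orderOf_eq_one, map_one])
    (hne r hr _ h1) (hne s hs _ h2)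
  rw [Symp.finrank_sympSpace] at this
  exact this.imp_right fun ⟨d₁, d₂, a, b, c, e⟩ => ⟨d₁, d₂, a, b, by omega, e⟩

theorem psp_two_cases (hodd : Odd qq) (hn : 1 ≤ n) {s : ℕ} (hs : s.Prime) (hs2 : s ≠ 2) (hsF : (s : F) ≠ 0)
    (h : 2 * s ∈ Set.range (orderOf : Cfsg.PSp n F → ℕ)) : TwoCrit qq n s := by
  obtain ⟨g, hg⟩ := h
  obtain ⟨y, rfl⟩ := QuotientGroup.mk_surjective g
  have hs3 := hs.two_le
  have hcen : y ^ (2 * s) ∈ Subgroup.center _ := by
    rw [← QuotientGroup.eq_one_iff, QuotientGroup.mk_pow, ← hg, pow_orderOf_eq_one]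
  have hdiv : ∀ k : ℕ, y ^ k ∈ Subgroup.center _ → 2 * s ∣ k := fun k hk => by
    rw [← hg]
    exact orderOf_dvd_of_pow_eq_one (by rw [← QuotientGroup.mk_pow]; exact (QuotientGroup.eq_one_iff _).2 hk)
  haveI := Symp.nontrivial_sympSpace (F := F) hn
  set a := endHom n F (y ^ 4) with ha'
  set z := endHom n F (y ^ s) with hz'
  have ha : a ^ s = 1 := by
    rw [ha', ← map_pow, ← pow_mul, show 4 * s = 2 * s * 2 by ring, pow_mul, sq_of_mem_center hcen, map_one]
  have ha1 : a ≠ 1 := fun e => by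
    have h4 := hdiv 4 ((endHom_center hn).2 (Or.inl e))
    have h5 := Nat.le_of_dvd (by norm_num) h4
    obtain rfl : s = 2 := by omega
    exact hs2 rfl
  have hzz : z * z = 1 ∨ z * z = -1 := by
    rw [hz', ← map_mul, ← pow_add, ← two_mul]
    exact (endHom_center hn).1 hcen
  have hzne : ¬ (z = 1 ∨ z = -1) := fun e => by
    have h4 := Nat.le_of_dvd hs.pos (hdiv s ((endHom_center hn).2 e))
    omega
  obtain ⟨-, -, -, -, hfix⟩ := split (Symp.sympBil n F) (Symp.sympBil_nondegenerate n F).1 sympBil_refl a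
    (endHom_preserves _) hsF ha
  by_cases hW : LinearMap.range (a - 1) = ⊤
  · have := two_cases (Symp.sympBil n F) (two_ne hodd) (Symp.sympBil_nondegenerate n F).1 sympBil_refl a z
      (endHom_preserves _) (endHom_preserves _) ((Commute.pow_pow_self y 4 s).map _) hs hs2 ha
      (fun v hv => hfix v (hW ▸ Submodule.mem_top) hv) hzz (fun e => hzne (Or.inl e)) (fun e => hzne (Or.inr e))
    rwa [Symp.finrank_sympSpace, Nat.mul_div_cancel_left _ two_pos] at this
  · have h1 := cond_moved (Symp.sympBil n F) (Symp.sympBil_nondegenerate n F).1 sympBil_refl a (endHom_preserves _)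
      hs hs2 hsF ha ha1
    have h2 := Submodule.finrank_lt hW
    rw [Symp.finrank_sympSpace] at h2
    exact Or.inl (h1.shrink h2)

theorem psp_char_cases {p : ℕ} [Fact p.Prime] [CharP F p] (hodd : Odd qq) (hn : 1 ≤ n) {s : ℕ} (hs : s.Prime)
    (hs2 : s ≠ 2) (hsp : p ≠ s) (hp2 : p ≠ 2) (h : p * s ∈ Set.range (orderOf : Cfsg.PSp n F → ℕ)) :
    Cond qq (2 * n - 2) s := by
  have hp : p.Prime := Fact.out
  have hsF : (s : F) ≠ 0 := fun e =>
    hsp ((Nat.prime_dvd_prime_iff_eq hp hs).1 ((CharP.cast_eq_zero_iff F p s).1 e))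
  obtain ⟨g, hg⟩ := h
  obtain ⟨y, -, hy⟩ := exists_lift_odd g (hg ▸ (hp.odd_of_ne_two hp2).mul (hs.odd_of_ne_two hs2))
  rw [hg] at hy
  obtain ⟨h1, h2⟩ := pow_orders hp hs hy
  haveI := Symp.nontrivial_sympSpace (F := F) hn
  have hne : ∀ k : ℕ, k.Prime → ∀ x : ↥(Matrix.symplecticGroup (Fin n) F), orderOf x = k → endHom n F x ≠ 1 :=
    fun k hk x hx e => hk.ne_one (by rw [← hx, endHom_injective (e.trans (map_one _).symm), orderOf_one])
  set a := endHom n F (y ^ p) with ha'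
  set u := endHom n F (y ^ s) with hu'
  have ha : a ^ s = 1 := by rw [ha', ← map_pow, ← h2, pow_orderOf_eq_one, map_one]
  obtain ⟨-, -, -, -, hfix⟩ := split (Symp.sympBil n F) (Symp.sympBil_nondegenerate n F).1 sympBil_refl a
    (endHom_preserves _) hsF ha
  by_cases hW : LinearMap.range (a - 1) = ⊤
  · haveI : CharP (Module.End F (Fin n ⊕ Fin n → F)) p :=
      charP_of_injective_algebraMap (algebraMap F _).injective p
    have hnil : IsNilpotent (u - 1) := ⟨p, by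
      rw [sub_pow_char_of_commute p (Commute.one_right _), one_pow, hu', ← map_pow, ← h1, pow_orderOf_eq_one,
        map_one, sub_self]⟩
    have := unipotent_cases (Symp.sympBil n F) (two_ne hodd) (Symp.sympBil_nondegenerate n F).1 sympBil_refl a u
      (endHom_preserves _) (endHom_preserves _) ((Commute.pow_pow_self y p s).map _) hs hs2 ha
      (fun v hv => hfix v (hW ▸ Submodule.mem_top) hv) hnil (hne p hp _ h1)
    rwa [Symp.finrank_sympSpace] at this
  · have h3 := cond_moved (Symp.sympBil n F) (Symp.sympBil_nondegenerate n F).1 sympBil_refl a (endHom_preserves _)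
      hs hs2 hsF ha (hne s hs _ h2)
    have h4 := Submodule.finrank_lt hW
    rw [Symp.finrank_sympSpace] at h4
    exact h3.shrink h4

theorem exists_torus_mul {d M : ℕ} (hd : 1 ≤ d) (h : Dv qq d M) :
    ∃ T : ↥(Matrix.symplecticGroup (Fin d) F), M ∣ orderOf T := by
  rcases h with h | h
  · obtain ⟨T, hT⟩ := exists_torus (F := F) hd (N := qq ^ d + 1) (Or.inl (by rw [Nat.card_eq_fintype_card]))
    exact ⟨T, hT ▸ h⟩
  · obtain ⟨T, hT⟩ := exists_torus (F := F) hd (N := qq ^ d - 1) (Or.inr (by rw [Nat.card_eq_fintype_card]))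
    exact ⟨T, hT ▸ h⟩

theorem exists_padded {d : ℕ} (hd : 1 ≤ d) (hdn : d ≤ n) {M : ℕ} (h : Dv qq d M) (hM : Odd M ∨ d < n) :
    M ∈ Set.range (orderOf : Cfsg.PSp n F → ℕ) := by
  obtain ⟨T, hT⟩ := exists_torus_mul hd h
  rcases Nat.lt_or_ge d n with hlt | hge
  · obtain ⟨b, rfl⟩ : ∃ b, n = d + b := ⟨n - d, by omega⟩
    obtain ⟨x, hx, -⟩ := dvd_orderOf_block hd T (1 : ↥(Matrix.symplecticGroup (Fin b) F)) (by omega)
      (by rw [orderOf_one]; exact odd_one)
    exact mem_range_orderOf (hT.trans hx)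
  · obtain rfl : d = n := by omega
    exact mem_range_orderOf (x := (QuotientGroup.mk T : Cfsg.PSp d F))
      ((Nat.coprime_two_right.2 (hM.resolve_right (lt_irrefl d))).dvd_of_dvd_mul_left
        (hT.trans (orderOf_dvd_two_mul T)))

theorem psp_odd_exists {r s : ℕ} (hr : r.Prime) (hs : s.Prime) (hrs : r ≠ s) (hr2 : r ≠ 2) (hs2 : s ≠ 2)
    (h : OddCrit qq n r s) : r * s ∈ Set.range (orderOf : Cfsg.PSp n F → ℕ) := by
  rcases h with ⟨d, h1, h2, h3⟩ | ⟨d₁, d₂, h1, h2, h3, h4, h5⟩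
  · exact exists_padded h1 (by omega) h3 (Or.inl ((hr.odd_of_ne_two hr2).mul (hs.odd_of_ne_two hs2)))
  · obtain ⟨T, hT⟩ := exists_torus_mul h1 h4
    obtain ⟨b, rfl⟩ : ∃ b, n = d₁ + b := ⟨n - d₁, by omega⟩
    obtain ⟨g, hg⟩ := exists_padded (n := b) h2 (by omega) h5 (Or.inl (hs.odd_of_ne_two hs2))
    obtain ⟨U, -, hU⟩ := exists_lift_odd g (hg ▸ hs.odd_of_ne_two hs2)
    rw [hg] at hU
    obtain ⟨x, hx1, hx2⟩ := dvd_orderOf_block h1 T U (by omega) (hU ▸ hs.odd_of_ne_two hs2)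
    exact mem_range_orderOf (((Nat.coprime_primes hr hs).2 hrs).mul_dvd_of_dvd_of_dvd (hT.trans hx1) (hU ▸ hx2))

theorem psp_two_exists (hodd : Odd qq) (hn : 1 ≤ n) {s : ℕ} (hs : s.Prime) (hs2 : s ≠ 2) (h : TwoCrit qq n s) :
    2 * s ∈ Set.range (orderOf : Cfsg.PSp n F → ℕ) := by
  rcases h with ⟨d, h1, h2, h3⟩ | h
  · refine exists_padded h1 (by omega) ?_ (Or.inr (by omega))
    obtain ⟨c, hc⟩ := hodd.pow (n := d)
    have hco : Nat.Coprime 2 s := (Nat.coprime_primes Nat.prime_two hs).2 hs2.symm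
    exact h3.imp (fun h => hco.mul_dvd_of_dvd_of_dvd (by omega) h) (fun h => hco.mul_dvd_of_dvd_of_dvd (by omega) h)
  · obtain ⟨T, hT⟩ := exists_torus_mul hn h
    refine mem_range_orderOf (x := (QuotientGroup.mk T : Cfsg.PSp n F)) (Nat.dvd_of_mul_dvd_mul_left two_pos ?_)
    rw [← mul_assoc]
    exact hT.trans (orderOf_dvd_two_mul T)

theorem psp_char_exists {p : ℕ} [Fact p.Prime] [CharP F p] {s : ℕ} (hs : s.Prime) (hsp : p ≠ s) (hp2 : p ≠ 2)
    (h : Cond qq (2 * n - 2) s) : p * s ∈ Set.range (orderOf : Cfsg.PSp n F → ℕ) := by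
  have hp : p.Prime := Fact.out
  obtain ⟨d, h1, h2, h3⟩ := h
  obtain ⟨b, rfl⟩ : ∃ b, n = d + b := ⟨n - d, by omega⟩
  obtain ⟨T, hT⟩ := exists_torus_mul h1 h3
  obtain ⟨U, ⟨j, hj⟩, hU⟩ := exists_unipotent (F := F) (p := p) (b := b) (by omega)
  obtain ⟨x, hx1, hx2⟩ := dvd_orderOf_block h1 T U (by omega) (hj ▸ (hp.odd_of_ne_two hp2).pow)
  have hU0 := hU 0 (by rw [pow_zero]; omega)
  rw [pow_one] at hU0
  exact mem_range_orderOf (((Nat.coprime_primes hp hs).2 hsp).mul_dvd_of_dvd_of_dvd (hU0.trans hx2) (hT.trans hx1))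

end CfsgLib.HallGen.PrimeGraphBC
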